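import Cfsg.Agent.S0142
import Cfsg.Agent.S0138
import Cfsg.Agent.S0907
import Cfsg.Agent.S0901
import Cfsg.Agent.S0144
import Cfsg.Agent.Blocks.Basic
import Cfsg.Agent.Blocks.ExistsModular
import Cfsg.Agent.Characters.AverageRoots
import Cfsg.Agent.Characters.Central
import Cfsg.Agent.SignalizersComponents.ComponentExists
import Cfsg.Agent.S0543
import Cfsg.Agent.Lib.GoldschmidtFusion

/-!
# Kazarin's theorem

* `commutes_of_block`: the character theoretic part (principal `q`-block of `K⟨x⟩`).
* `exists_normal_solvable`: an element whose class has prime power size lies in a solvable normal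
  subgroup.
-/

set_option autoImplicit false
open Cfsg

namespace Cfsg.Agent.H576.Kazarin

universe u

open scoped ComplexConjugate

/-- The elements acting as scalars form a subgroup. -/
def scal {G : Type*} [Group G] {n : ℕ} (ρ : Representation ℂ G (Fin n → ℂ)) : Subgroup G where
  carrier := {g | ∃ c : ℂ, c ≠ 0 ∧ ρ g = c • (LinearMap.id : (Fin n → ℂ) →ₗ[ℂ] (Fin n → ℂ))}
  one_mem' := ⟨1, one_ne_zero, by rw [map_one, one_smul]; rfl⟩
  mul_mem' := by
    rintro a b ⟨c, hc0, hc⟩ ⟨d, hd0, hd⟩
    refine ⟨c * d, mul_ne_zero hc0 hd0, ?_⟩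
    rw [map_mul, hc, hd]
    ext v i
    simp [mul_assoc, mul_left_comm]
  inv_mem' := by
    rintro a ⟨c, hc0, hc⟩
    refine ⟨c⁻¹, inv_ne_zero hc0, ?_⟩
    have h1 : ρ a⁻¹ * ρ a = 1 := by rw [← map_mul, inv_mul_cancel, map_one]
    rw [hc] at h1
    have h2 : c • ρ a⁻¹ = 1 := by
      rw [← h1]
      ext v i
      simp
    rw [← inv_smul_smul₀ hc0 (ρ a⁻¹), h2]
    rfl

/-- A scalar representation affording an irreducible character has degree one. -/
theorem degree_eq_one {G : Type*} [Group G] [Finite G] {n : ℕ}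
    (ρ : Representation ℂ G (Fin n → ℂ)) (hρ : ρ.IsIrreducible) (h : scal ρ = ⊤) : n = 1 := by
  have := Fintype.ofFinite G
  have hsum := Cfsg.Agent.Characters.Central.sum_char_mul_char_inv ρ hρ
  have h1 : ∀ g : G, ρ.character g * ρ.character g⁻¹ = (n : ℂ) * n := by
    intro g
    obtain ⟨c, hc0, hc⟩ : g ∈ scal ρ := by rw [h]; trivial
    have h2 : ρ g⁻¹ = c⁻¹ • (LinearMap.id : (Fin n → ℂ) →ₗ[ℂ] (Fin n → ℂ)) := by
      have h1 : ρ g⁻¹ * ρ g = 1 := by rw [← map_mul, inv_mul_cancel, map_one]
      rw [hc] at h1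
      have h2 : c • ρ g⁻¹ = 1 := by
        rw [← h1]
        ext v i
        simp
      rw [← inv_smul_smul₀ hc0 (ρ g⁻¹), h2]
      rfl
    have h3 : ∀ d : ℂ, LinearMap.trace ℂ (Fin n → ℂ)
        (d • (LinearMap.id : (Fin n → ℂ) →ₗ[ℂ] (Fin n → ℂ))) = d * n := by
      intro d
      rw [map_smul, LinearMap.trace_id, Module.finrank_fin_fun, smul_eq_mul]
    rw [Representation.character, Representation.character, hc, h2, h3, h3]
    field_simp
  simp only [h1, Finset.sum_const, Finset.card_univ, Fintype.card_eq_nat_card,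
    nsmul_eq_mul] at hsum
  have hG : (Nat.card G : ℂ) ≠ 0 := by exact_mod_cast Nat.card_pos.ne'
  have hnn : (n : ℂ) * n = 1 := mul_left_cancel₀ hG (hsum.trans (mul_one _).symm)
  have h2 : n * n = 1 := by exact_mod_cast hnn
  exact Nat.eq_one_of_mul_eq_one_left h2

/-- **The character theoretic part of Kazarin's theorem.** -/
theorem commutes_of_block {G : Type*} [Group G] [Finite G] {p q r k : ℕ} (hp : p.Prime)
    (hq : q.Prime) (hqp : q ≠ p) (hr : r.Prime) (hqr : q ≠ r) {x : G} (hx : orderOf x = r)
    (hind : (Subgroup.centralizer ({x} : Set G)).index = p ^ k) (K : Subgroup G) [K.Normal]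
    (hK : K ⊔ Subgroup.zpowers x = ⊤) (hqK : q ∣ Nat.card K)
    (hmin : ∀ L : Subgroup G, L.Normal → L ≤ K → L = ⊥ ∨ L = K) :
    ∀ g ∈ K, x * g = g * x := by
  have : Fact p.Prime := ⟨hp⟩
  have : Fact q.Prime := ⟨hq⟩
  by_contra hcon
  push Not at hcon
  obtain ⟨g1, hg1K, hg1⟩ := hcon
  obtain ⟨M, hM⟩ := Cfsg.Agent.Blocks.ExistsModular.exists_isPModular hq
  obtain ⟨M', hM'⟩ := Cfsg.Agent.Blocks.ExistsModular.exists_isPModular hp
  have hMp : M.IsPrime := hM.2.1.isPrime
  have hMp' : M'.IsPrime := hM'.2.1.isPrime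
  have hpk : ¬ MemLocalIdeal M ((p ^ k : ℕ) : ℂ) := by
    rw [Cfsg.Agent.Blocks.Local.memLocalIdeal_natCast_iff hM]
    intro h
    exact hqp ((Nat.prime_dvd_prime_iff_eq hq hp).1 (hq.dvd_of_dvd_pow h))
  -- the characters of degree prime to `p` in the principal block
  have key : ∀ χ : IrrCharacter G, χ ∈ principalBlock M G → ¬ p ∣ charDegree (χ : G → ℂ) →
      (χ : G → ℂ) = fun _ => 1 := by
    rintro ⟨χ, n, ρ, hρ, rfl⟩ hχ hdeg
    have hn : charDegree ρ.character = n := by
      apply Cfsg.Agent.Blocks.Basic.charDegree_of_eq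
      rw [Representation.char_one, Module.finrank_fin_fun]
    simp only [hn] at hdeg
    have hcop : Nat.Coprime (Module.finrank ℂ (Fin n → ℂ))
        (Subgroup.centralizer ({x} : Set G)).index := by
      rw [Module.finrank_fin_fun, hind]
      exact Nat.Coprime.pow_right k (((Nat.Prime.coprime_iff_not_dvd hp).2 hdeg).symm)
    have h1 : MemLocalIdeal M (centralChar (fun _ : G => (1 : ℂ)) x - centralChar ρ.character x) :=
      hχ x
    have hchx : ρ.character x ≠ 0 := by
      intro h0
      have h2 : centralChar (fun _ : G => (1 : ℂ)) x - centralChar ρ.character x =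
          ((p ^ k : ℕ) : ℂ) := by
        simp [centralChar, h0, hind]
      rw [h2] at h1
      exact hpk h1
    have := hρ
    have hnorm := (Cfsg.Agent.S0142.result ρ x hcop).resolve_left hchx
    obtain ⟨w, hw⟩ := (Cfsg.Agent.S0138.result ρ x).mp hnorm
    have hn0 : (n : ℂ) ≠ 0 := by
      intro h0
      have : n = 0 := by exact_mod_cast h0
      subst this
      exact hdeg (dvd_zero p)
    have hchw : ρ.character x = w * n := by
      rw [Representation.character, hw, map_smul, LinearMap.trace_id, Module.finrank_fin_fun,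
        smul_eq_mul]
    have hw0 : w ≠ 0 := by
      rintro rfl
      rw [zero_mul] at hchw
      exact hchx hchw
    have hxs : x ∈ scal ρ := ⟨w, hw0, hw⟩
    -- the kernel
    have hker : K ≤ (MonoidHom.ker ρ : Subgroup G) := by
      have hnk : ((MonoidHom.ker ρ : Subgroup G) ⊓ K).Normal := inferInstance
      rcases hmin _ hnk inf_le_right with h | h
      · exfalso
        apply hg1
        have h3 : x * g1 * x⁻¹ * g1⁻¹ ∈ (MonoidHom.ker ρ : Subgroup G) ⊓ K := by
          refine ⟨?_, ?_⟩
          · change ρ (x * g1 * x⁻¹ * g1⁻¹) = 1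
            have h4 : ρ (x * g1) = ρ (g1 * x) := by
              rw [map_mul, map_mul, hw]
              ext v i
              simp
            have h5 : x * g1 * x⁻¹ * g1⁻¹ = (x * g1) * (g1 * x)⁻¹ := by group
            rw [h5, map_mul, h4, ← map_mul, mul_inv_cancel, map_one]
          · exact K.mul_mem (Subgroup.Normal.conj_mem inferInstance _ hg1K x) (K.inv_mem hg1K)
        rw [h, Subgroup.mem_bot, mul_inv_eq_one, mul_inv_eq_iff_eq_mul] at h3
        exact h3
      · rw [← h]; exact inf_le_left
    have hKs : K ≤ scal ρ := by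
      intro g hg
      refine ⟨1, one_ne_zero, ?_⟩
      have := hker hg
      rw [MonoidHom.mem_ker] at this
      rw [this, one_smul]
      rfl
    have htop : scal ρ = ⊤ := by
      rw [eq_top_iff, ← hK]
      exact sup_le hKs ((Subgroup.zpowers_le).2 hxs)
    have hn1 : n = 1 := degree_eq_one ρ hρ htop
    subst hn1
    -- `w = 1`
    have hwr : w ^ r = 1 := by
      have h2 : ρ (x ^ r) = 1 := by rw [← hx, pow_orderOf_eq_one, map_one]
      have h3 : ∀ m : ℕ, ρ (x ^ m) = w ^ m • (LinearMap.id : (Fin 1 → ℂ) →ₗ[ℂ] (Fin 1 → ℂ)) := by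
        intro m
        induction m with
        | zero => rw [pow_zero, map_one, pow_zero, one_smul]; rfl
        | succ m ih =>
          rw [pow_succ, map_mul, ih, hw, pow_succ]
          ext v i
          simp [mul_assoc, mul_left_comm]
      rw [h3] at h2
      have h4 := congrArg (LinearMap.trace ℂ (Fin 1 → ℂ)) h2
      rw [map_smul, LinearMap.trace_id, LinearMap.trace_one, Module.finrank_fin_fun,
        smul_eq_mul] at h4
      simpa using h4
    have hwi : IsIntegral ℤ w := by
      refine IsIntegral.of_pow hr.pos ?_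
      rw [hwr]
      exact isIntegral_one
    have hw1 : w = 1 := by
      have h2 : centralChar (fun _ : G => (1 : ℂ)) x - centralChar ρ.character x =
          ((p ^ k : ℕ) : ℂ) * (1 - w) := by
        have h10 : ρ.character 1 = 1 := by
          rw [Representation.char_one, Module.finrank_fin_fun]; simp
        rw [centralChar, centralChar, hind, hchw, h10]
        push_cast
        ring
      rw [h2] at h1
      have h3 : MemLocalIdeal M (1 - w) := by
        rcases Cfsg.Agent.Blocks.Local.memLocalIdeal_or_of_mul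
          (Cfsg.Agent.Blocks.Local.memLocalRing_natCast (M := M) (p ^ k))
          (Cfsg.Agent.Blocks.Local.memLocalRing_of_isIntegral (M := M)
            (isIntegral_one.sub hwi)) h1 with h | h
        · exact absurd h hpk
        · exact h
      have h4 : ((1 : AlgInt) - (⟨w, hwi⟩ : AlgInt)) ∈ M := by
        rw [← Cfsg.Agent.Blocks.Local.memLocalIdeal_algInt_iff (M := M)]
        exact h3
      have h5 := (Cfsg.Agent.S0901.result q M hM).1 1 ⟨w, hwi⟩ ⟨1, fun h => hq.one_lt.ne'
        (Nat.dvd_one.1 h), by simp⟩ ⟨r, fun h => hqr ((Nat.prime_dvd_prime_iff_eq hq hr).1 h),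
        hwr⟩ h4
      exact (congrArg Subtype.val h5).symm
    have hxk : x ∈ (MonoidHom.ker ρ : Subgroup G) := by
      rw [MonoidHom.mem_ker, hw, hw1, one_smul]
      rfl
    have hkt : (MonoidHom.ker ρ : Subgroup G) = ⊤ := by
      rw [eq_top_iff, ← hK]
      exact sup_le hker ((Subgroup.zpowers_le).2 hxk)
    funext g
    have hg : g ∈ (MonoidHom.ker ρ : Subgroup G) := by rw [hkt]; trivial
    rw [MonoidHom.mem_ker] at hg
    change LinearMap.trace ℂ _ (ρ g) = 1
    rw [hg, LinearMap.trace_one, Module.finrank_fin_fun, Nat.cast_one]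
  -- an element of order `q` in `K`
  obtain ⟨⟨y, hyK⟩, hy⟩ := exists_prime_orderOf_dvd_card' (G := K) q hqK
  rw [Subgroup.orderOf_mk] at hy
  let one : IrrCharacter G := ⟨fun _ => 1, Cfsg.Agent.Blocks.Basic.isIrrCharacter_one⟩
  have hone : one ∈ principalBlock M G := Cfsg.Agent.Blocks.Basic.mem_blockOf_self one
  have hB : IsPBlock M (principalBlock M G) := ⟨one, rfl⟩
  have hsum := Cfsg.Agent.S0907.result q M hM (principalBlock M G) hB 1 y
    (by rw [orderOf_one]; exact fun h => hq.one_lt.ne' (Nat.dvd_one.1 h)) (by rw [hy])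
  have hfin : Finite (IrrCharacter G) := Cfsg.Agent.Characters.Core.finite_irr
  have hins : principalBlock M G = insert one (principalBlock M G \ {one}) := by
    rw [Set.insert_sdiff_singleton, Set.insert_eq_of_mem hone]
  rw [hins, finsum_mem_insert _ (by simp) (Set.toFinite _)] at hsum
  have hrest : MemLocalIdeal M' (∑ᶠ χ ∈ principalBlock M G \ {one},
      (χ : G → ℂ) 1 * conj ((χ : G → ℂ) y)) := by
    refine Cfsg.Agent.Blocks.Local.memLocalIdeal_finsum_mem fun χ hχ => ?_
    have hdvd : p ∣ charDegree (χ : G → ℂ) := by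
      by_contra hnd
      exact hχ.2 (Subtype.ext (key χ hχ.1 hnd))
    have h1 : MemLocalIdeal M' ((χ : G → ℂ) 1) := by
      rw [Cfsg.Agent.Blocks.Basic.irr_one_eq_charDegree χ.2,
        Cfsg.Agent.Blocks.Local.memLocalIdeal_natCast_iff hM']
      exact hdvd
    refine Cfsg.Agent.Blocks.Local.memLocalIdeal_mul_right h1 ?_
    obtain ⟨χ, n, ρ, hρ, rfl⟩ := χ
    have h2 := Cfsg.Agent.Characters.AverageRoots.isIntegral_character ρ y
    apply Cfsg.Agent.Blocks.Local.memLocalRing_of_isIntegral
    exact h2.map (Complex.conjAe.toAlgHom.restrictScalars ℤ)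
  have h1 : MemLocalIdeal M' (1 : ℂ) := by
    have h2 : (1 : ℂ) = -(∑ᶠ χ ∈ principalBlock M G \ {one},
      (χ : G → ℂ) 1 * conj ((χ : G → ℂ) y)) := by
      have h3 : ((one : IrrCharacter G) : G → ℂ) 1 * conj (((one : IrrCharacter G) : G → ℂ) y) = 1 := by
        simp [one]
      rw [h3] at hsum
      linear_combination hsum
    rw [h2]
    exact Cfsg.Agent.Blocks.Local.memLocalIdeal_neg hrest
  exact Cfsg.Agent.Blocks.Local.not_memLocalIdeal_one h1

/-! ### Group theoretic reduction -/

/-- Index of the centralizer of an image. -/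
theorem index_centralizer_map_dvd {G H : Type*} [Group G] [Group H] (f : G →* H)
    (hf : Function.Surjective f) (x : G) :
    (Subgroup.centralizer ({f x} : Set H)).index ∣ (Subgroup.centralizer ({x} : Set G)).index := by
  have h1 : (Subgroup.centralizer ({x} : Set G)).map f ≤ Subgroup.centralizer ({f x} : Set H) := by
    rintro _ ⟨g, hg, rfl⟩
    have hg' : g ∈ Subgroup.centralizer ({x} : Set G) := hg
    rw [Subgroup.mem_centralizer_singleton_iff] at hg' ⊢
    rw [← map_mul, hg', map_mul]
  exact (Subgroup.index_dvd_of_le h1).trans (Subgroup.index_map_dvd _ hf)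

/-- The centralizer of an element in a subgroup. -/
theorem centralizer_subgroupOf {G : Type*} [Group G] (H : Subgroup G) (x : H) :
    Subgroup.centralizer ({x} : Set H) =
      (Subgroup.centralizer ({(x : G)} : Set G)).subgroupOf H := by
  ext g
  rw [Subgroup.mem_subgroupOf, Subgroup.mem_centralizer_singleton_iff,
    Subgroup.mem_centralizer_singleton_iff]
  exact Subtype.ext_iff

/-- `|K Z : C ∩ K Z|` divides `|G : C|` for `K` normal and `Z ≤ C`. -/
theorem relIndex_sup_dvd {G : Type*} [Group G] [Finite G] (K C Z : Subgroup G) [K.Normal]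
    (hZ : Z ≤ C) : C.relIndex (K ⊔ Z) ∣ C.index := by
  have h1 : C.relIndex K ∣ C.index :=
    Cfsg.Agent.Lib.GoldschmidtFusion.relIndex_dvd_index_of_normal_right C K
  have h2 : K.relIndex (C ⊓ (K ⊔ Z)) = K.relIndex (K ⊔ Z) := by
    rw [← Subgroup.relIndex_sup_right]
    congr 1
    apply le_antisymm
    · exact sup_le inf_le_right le_sup_left
    · exact sup_le le_sup_right ((le_inf hZ le_sup_right).trans le_sup_left)
  have h3 := Subgroup.relIndex_mul_relIndex (K ⊓ C) K (K ⊔ Z) inf_le_left le_sup_left
  have h4 := Subgroup.relIndex_mul_relIndex (K ⊓ C) (C ⊓ (K ⊔ Z)) (K ⊔ Z)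
    (le_inf inf_le_right (inf_le_left.trans le_sup_left)) inf_le_right
  rw [← h3] at h4
  have h5 : (K ⊓ C).relIndex (C ⊓ (K ⊔ Z)) = K.relIndex (K ⊔ Z) := by
    rw [← h2, ← Subgroup.inf_relIndex_right K (C ⊓ (K ⊔ Z)),
      ← Subgroup.inf_relIndex_right (K ⊓ C) (C ⊓ (K ⊔ Z))]
    congr 1
    rw [inf_assoc, ← inf_assoc C C, inf_idem]
  have h6 : (K ⊓ C).relIndex K = C.relIndex K := by
    rw [inf_comm, Subgroup.inf_relIndex_right]
  have h7 : (C ⊓ (K ⊔ Z)).relIndex (K ⊔ Z) = C.relIndex (K ⊔ Z) :=
    Subgroup.inf_relIndex_right _ _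
  rw [h5, h6, h7, mul_comm] at h4
  have h9 : K.relIndex (K ⊔ Z) ≠ 0 := by
    intro h
    have h10 := Subgroup.relIndex_dvd_card K (K ⊔ Z)
    rw [h] at h10
    exact Nat.card_pos.ne' (Nat.eq_zero_of_zero_dvd h10)
  have h8 : C.relIndex (K ⊔ Z) = C.relIndex K :=
    Nat.eq_of_mul_eq_mul_right (Nat.pos_of_ne_zero h9) h4
  rw [h8]
  exact h1

/-- Solvability from an image and a kernel. -/
theorem isSolvable_of_map {G H : Type*} [Group G] [Group H] (f : G →* H) (N : Subgroup G)
    (h1 : Group.IsSolvable (N.map f)) (h2 : Group.IsSolvable ↥(f.ker ⊓ N)) :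
    Group.IsSolvable N := by
  refine Group.isSolvable_of_ker_le_range
    (Subgroup.inclusion (inf_le_right : f.ker ⊓ N ≤ N)) (f.subgroupMap N) ?_
  intro x hx
  rw [MonoidHom.mem_ker] at hx
  have h3 : f (x : G) = 1 := congrArg Subtype.val hx
  exact ⟨⟨x, h3, x.2⟩, rfl⟩

/-- A finite group that is not solvable has order divisible by a prime outside a set of two. -/
theorem exists_prime_dvd {G : Type*} [Group G] [Finite G] (hG : ¬ Group.IsSolvable G) {p r : ℕ}
    (hp : p.Prime) (hr : r.Prime) : ∃ q : ℕ, q.Prime ∧ q ∣ Nat.card G ∧ q ≠ p ∧ q ≠ r := by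
  by_contra hcon
  push Not at hcon
  apply hG
  rcases eq_or_ne p r with hpr | hpr
  · subst hpr
    apply Cfsg.Agent.S0144.result p p (Nat.card G).primeFactorsList.length 0 hp hp
    rw [pow_zero, mul_one]
    refine Nat.eq_prime_pow_of_unique_prime_dvd Nat.card_pos.ne' fun {d} hd hdvd => ?_
    by_contra hne
    exact hne (hcon d hd hdvd hne)
  · obtain ⟨a, m, hm, hcard⟩ := Nat.exists_eq_pow_mul_and_not_dvd (Nat.card_pos (α := G)).ne' p
      hp.ne_one
    apply Cfsg.Agent.S0144.result p r a m.primeFactorsList.length hp hr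
    have hm0 : m ≠ 0 := by rintro rfl; exact hm (dvd_zero p)
    have hm' : m = r ^ m.primeFactorsList.length := by
      refine Nat.eq_prime_pow_of_unique_prime_dvd hm0 fun {d} hd hdvd => ?_
      have hdp : d ≠ p := by rintro rfl; exact hm hdvd
      exact hcon d hd (hcard ▸ hdvd.mul_left _) hdp
    rw [← hm', hcard]

/-- A `p`-element with a class of `p`-power size lies in a normal `p`-subgroup. -/
theorem isPGroup_normalClosure {G : Type*} [Group G] [Finite G] {p k j : ℕ} [Fact p.Prime] {x : G}
    (hx : orderOf x = p ^ j)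
    (hind : (Subgroup.centralizer ({x} : Set G)).index = p ^ k) :
    IsPGroup p (Subgroup.normalClosure ({x} : Set G)) := by
  have hz : IsPGroup p (Subgroup.zpowers x) := by
    apply IsPGroup.of_card (n := j)
    rw [Nat.card_zpowers, hx]
  obtain ⟨P, hP⟩ := hz.exists_le_sylow
  have hxP : x ∈ (P : Subgroup G) := hP (Subgroup.mem_zpowers x)
  have hcop : (P : Subgroup G).index.Coprime (Subgroup.centralizer ({x} : Set G)).index := by
    rw [hind]
    exact Nat.Coprime.pow_right k
      (((Nat.Prime.coprime_iff_not_dvd (Fact.out : p.Prime)).2 P.not_dvd_index).symm)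
  have hle : Subgroup.normalClosure ({x} : Set G) ≤ (P : Subgroup G) := by
    unfold Subgroup.normalClosure
    rw [Subgroup.closure_le]
    intro y hy
    rw [Group.mem_conjugatesOfSet_iff] at hy
    obtain ⟨z, hz, hzy⟩ := hy
    rw [Set.mem_singleton_iff] at hz
    subst hz
    obtain ⟨g, rfl⟩ := isConj_iff.1 hzy
    obtain ⟨a, ha, b, hb, rfl⟩ := Cfsg.Agent.S0543.exists_mul_eq_of_coprime_index _ _ hcop g
    rw [Subgroup.mem_centralizer_singleton_iff] at hb
    have : a * b * z * (a * b)⁻¹ = a * z * a⁻¹ := by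
      rw [mul_assoc a b z, hb]
      group
    rw [this]
    exact (P : Subgroup G).mul_mem ((P : Subgroup G).mul_mem ha hxP) ((P : Subgroup G).inv_mem ha)
  exact P.isPGroup'.to_le hle

/-- **Kazarin's Theorem.** -/
theorem exists_normal_solvable {p : ℕ} (hp : p.Prime) (n : ℕ) :
    ∀ (G : Type u) [Group G] [Finite G], Nat.card G ≤ n → ∀ (x : G) (k : ℕ),
      (Subgroup.centralizer ({x} : Set G)).index = p ^ k →
      ∃ N : Subgroup G, N.Normal ∧ Group.IsSolvable N ∧ x ∈ N := by
  have : Fact p.Prime := ⟨hp⟩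
  induction n with
  | zero =>
    intro G _ _ hG
    exact absurd hG (by have := Nat.card_pos (α := G); omega)
  | succ n ih =>
    intro G _ _ hG x k hx
    -- step 0
    by_cases hsol : ∃ K : Subgroup G, K.Normal ∧ Group.IsSolvable K ∧ K ≠ ⊥
    · obtain ⟨K, hKn, hKs, hK⟩ := hsol
      have hcard : Nat.card (G ⧸ K) ≤ n := by
        have h1 := K.index_mul_card
        have h2 : 1 < Nat.card K := by
          rw [← Subgroup.one_lt_card_iff_ne_bot] at hK
          exact hK
        have h3 : K.index = Nat.card (G ⧸ K) := rfl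
        have h4 := Nat.card_pos (α := G ⧸ K)
        rw [h3] at h1
        nlinarith
      obtain ⟨m, -, hm⟩ := (Nat.dvd_prime_pow hp).1
        (hx ▸ index_centralizer_map_dvd (QuotientGroup.mk' K) (QuotientGroup.mk'_surjective K) x)
      obtain ⟨N, hNn, hNs, hxN⟩ := ih (G ⧸ K) hcard _ m hm
      refine ⟨N.comap (QuotientGroup.mk' K), inferInstance, ?_, hxN⟩
      refine isSolvable_of_map (QuotientGroup.mk' K) _ ?_ ?_
      · exact Cfsg.Agent.SignalizersComponents.ComponentExists.isSolvable_of_le
          (Subgroup.map_comap_le _ _) hNs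
      · rw [QuotientGroup.ker_mk']
        exact Cfsg.Agent.SignalizersComponents.ComponentExists.isSolvable_of_le inf_le_left hKs
    push Not at hsol
    by_cases hx1 : x = 1
    · exact ⟨⊥, inferInstance, inferInstance, by rw [hx1]; exact Subgroup.one_mem _⟩
    exfalso
    -- an element of prime order
    have hox : orderOf x ≠ 1 := fun h => hx1 (orderOf_eq_one_iff.1 h)
    obtain ⟨r, hr, hrd⟩ := Nat.exists_prime_and_dvd hox
    obtain ⟨y, hyo, hyx⟩ : ∃ y : G, orderOf y = r ∧ y ∈ Subgroup.zpowers x := by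
      refine ⟨x ^ (orderOf x / r), ?_, Subgroup.pow_mem _ (Subgroup.mem_zpowers x) _⟩
      exact orderOf_pow_orderOf_div (orderOf_pos x).ne' hrd
    have hy1 : y ≠ 1 := by
      rintro rfl
      rw [orderOf_one] at hyo
      exact hr.one_lt.ne hyo
    have hCle : Subgroup.centralizer ({x} : Set G) ≤ Subgroup.centralizer ({y} : Set G) := by
      intro g hg
      rw [Subgroup.mem_centralizer_singleton_iff] at hg ⊢
      obtain ⟨m, rfl⟩ := hyx
      exact (show Commute g x from hg).zpow_right m
    obtain ⟨k', -, hk'⟩ := (Nat.dvd_prime_pow hp).1 (hx ▸ Subgroup.index_dvd_of_le hCle)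
    have hrp : r ≠ p := by
      rintro rfl
      have h1 := isPGroup_normalClosure (p := r) (j := 1) (by rw [hyo, pow_one]) hk'
      have h2 : Group.IsSolvable (Subgroup.normalClosure ({y} : Set G)) := by
        have := h1.isNilpotent
        infer_instance
      have h3 := hsol _ Subgroup.normalClosure_normal h2
      have h4 : y ∈ Subgroup.normalClosure ({y} : Set G) :=
        Subgroup.subset_normalClosure (Set.mem_singleton y)
      rw [h3, Subgroup.mem_bot] at h4
      exact hy1 h4
    -- a minimal normal subgroup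
    obtain ⟨K, hK⟩ := Set.Finite.exists_minimal
      (s := {N : Subgroup G | N.Normal ∧ N ≠ ⊥}) (Set.toFinite _)
      ⟨⊤, inferInstance, fun h => hx1 (by
        have : x ∈ (⊤ : Subgroup G) := trivial
        rw [h, Subgroup.mem_bot] at this
        exact this)⟩
    have hKn : K.Normal := hK.prop.1
    have hKb : K ≠ ⊥ := hK.prop.2
    have hmin : ∀ L : Subgroup G, L.Normal → L ≤ K → L = ⊥ ∨ L = K := by
      intro L hL hLK
      by_cases hb : L = ⊥
      · exact Or.inl hb
      · exact Or.inr (le_antisymm hLK (hK.le_of_le ⟨hL, hb⟩ hLK))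
    have hKs : ¬ Group.IsSolvable K := fun h => hKb (hsol K hKn h)
    obtain ⟨q, hq, hqK, hqp, hqr⟩ := exists_prime_dvd hKs hp hr
    -- `y` centralizes `K`
    have hcen : ∀ g ∈ K, y * g = g * y := by
      by_cases htop : K ⊔ Subgroup.zpowers y = ⊤
      · exact commutes_of_block hp hq hqp hr hqr hyo hk' K htop hqK hmin
      · set H := K ⊔ Subgroup.zpowers y with hH
        have hyH : y ∈ H := (le_sup_right : _ ≤ H) (Subgroup.mem_zpowers y)
        have hKH : K ≤ H := le_sup_left
        have hcard : Nat.card H ≤ n := by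
          have h1 : Nat.card H < Nat.card G := by
            have h2 := H.index_mul_card
            have h3 : H.index ≠ 1 := fun h => htop (Subgroup.index_eq_one.1 h)
            have h4 : H.index ≠ 0 := Subgroup.index_ne_zero_of_finite
            have h5 := Nat.card_pos (α := H)
            have h6 : 2 ≤ H.index := by omega
            nlinarith
          omega
        have hidx : (Subgroup.centralizer ({(⟨y, hyH⟩ : H)} : Set H)).index ∣ p ^ k' := by
          rw [centralizer_subgroupOf]
          change (Subgroup.centralizer ({y} : Set G)).relIndex H ∣ _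
          rw [← hk', hH]
          refine relIndex_sup_dvd K _ _ ?_
          rw [Subgroup.zpowers_le, Subgroup.mem_centralizer_singleton_iff]
        obtain ⟨m, -, hm⟩ := (Nat.dvd_prime_pow hp).1 hidx
        obtain ⟨N, hNn, hNs, hyN⟩ := ih H hcard ⟨y, hyH⟩ m hm
        -- the solvable radical of `K` is trivial
        obtain ⟨R, hRc, hRs, hRmax⟩ :=
          Cfsg.Agent.SignalizersComponents.ComponentExists.exists_solvableRadical K
        have hRb : R.map K.subtype = ⊥ := by
          apply hsol
          · exact ConjAct.normal_of_characteristic_of_normal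
          · exact Cfsg.Agent.SignalizersComponents.ComponentExists.isSolvable_map hRs _
        have hNK : ∀ z : G, z ∈ K → (∃ hz : z ∈ H, (⟨z, hz⟩ : H) ∈ N) → z = 1 := by
          intro z hzK hz
          let N1 : Subgroup K := N.comap (Subgroup.inclusion hKH)
          have hN1 : N1.Normal := inferInstance
          have hN1s : Group.IsSolvable N1 := by
            have hinj : Function.Injective
                (fun w : N1 => (⟨Subgroup.inclusion hKH w.1, w.2⟩ : N)) := by
              intro a b hab
              apply Subtype.ext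
              apply Subgroup.inclusion_injective hKH
              exact congrArg Subtype.val hab
            let f : N1 →* N :=
              { toFun := fun w => ⟨Subgroup.inclusion hKH w.1, w.2⟩
                map_one' := rfl
                map_mul' := fun a b => rfl }
            exact Group.isSolvable_of_isSolvable_injective (f := f) hinj
          have h1 : (⟨z, hzK⟩ : K) ∈ N1 := hz.2
          have h2 := Subgroup.mem_map_of_mem K.subtype (hRmax N1 hN1 hN1s h1)
          rw [hRb, Subgroup.mem_bot] at h2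
          exact h2
        intro g hg
        have h1 : y * g * y⁻¹ * g⁻¹ = 1 := by
          apply hNK
          · exact K.mul_mem (hKn.conj_mem _ hg y) (K.inv_mem hg)
          · have hgH : g ∈ H := hKH hg
            refine ⟨H.mul_mem (H.mul_mem (H.mul_mem hyH hgH) (H.inv_mem hyH)) (H.inv_mem hgH), ?_⟩
            have h2 : (⟨y, hyH⟩ : H) * (⟨g, hgH⟩ * ⟨y, hyH⟩⁻¹ * ⟨g, hgH⟩⁻¹) ∈ N :=
              N.mul_mem hyN (hNn.conj_mem _ (N.inv_mem hyN) _)
            convert h2 using 1
            apply Subtype.ext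
            simp [mul_assoc]
        rwa [mul_inv_eq_one, mul_inv_eq_iff_eq_mul] at h1
    -- conclusion
    have hCn : (Subgroup.centralizer (K : Set G)).Normal := inferInstance
    have hKC : K ⊓ Subgroup.centralizer (K : Set G) = ⊥ := by
      apply hsol _ inferInstance
      refine Group.isSolvable_of_comm fun a b => Subtype.ext ?_
      have h1 := Subgroup.mem_centralizer_iff.1 b.2.2 a a.2.1
      exact h1
    have hcard : Nat.card (G ⧸ K) ≤ n := by
      have h1 := K.index_mul_card
      have h2 : 1 < Nat.card K := by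
        rw [← Subgroup.one_lt_card_iff_ne_bot] at hKb
        exact hKb
      have h3 : K.index = Nat.card (G ⧸ K) := rfl
      have h4 := Nat.card_pos (α := G ⧸ K)
      rw [h3] at h1
      nlinarith
    obtain ⟨m, -, hm⟩ := (Nat.dvd_prime_pow hp).1
      (hk' ▸ index_centralizer_map_dvd (QuotientGroup.mk' K) (QuotientGroup.mk'_surjective K) y)
    obtain ⟨N, hNn, hNs, hyN⟩ := ih (G ⧸ K) hcard _ m hm
    have hN1 : Subgroup.centralizer (K : Set G) ⊓ N.comap (QuotientGroup.mk' K) = ⊥ := by
      apply hsol _ inferInstance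
      refine isSolvable_of_map (QuotientGroup.mk' K) _ ?_ ?_
      · refine Cfsg.Agent.SignalizersComponents.ComponentExists.isSolvable_of_le
          ((Subgroup.map_mono inf_le_right).trans (Subgroup.map_comap_le _ _)) hNs
      · rw [QuotientGroup.ker_mk', ← inf_assoc, hKC, bot_inf_eq]
        infer_instance
    have hy2 : y ∈ Subgroup.centralizer (K : Set G) ⊓ N.comap (QuotientGroup.mk' K) := by
      refine ⟨?_, hyN⟩
      refine Subgroup.mem_centralizer_iff.2 fun g hg => ?_
      exact (hcen g hg).symm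
    rw [hN1, Subgroup.mem_bot] at hy2
    exact hy1 hy2

end Cfsg.Agent.H576.Kazarin
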