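import Cfsg.Agent.H576.PrimCls
import Cfsg.Agent.OddHalf.Small.RankOne
import Cfsg.Agent.KFacts.RgdLieCharP
import Cfsg.Agent.S1059
import Cfsg.Agent.S1062
import Cfsg.Agent.S1066
import Cfsg.Agent.S1163
import Cfsg.Agent.S2100
import Cfsg.Agent.S2101
import Cfsg.Agent.S2102
import Cfsg.Agent.S2103
import Cfsg.Agent.S2104
import Cfsg.Agent.S2105
import Cfsg.Agent.S2106
import Cfsg.Agent.S2107
import Cfsg.Agent.S2108
import Cfsg.Agent.S2109
import Cfsg.Agent.S2110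
import Cfsg.Agent.S2111
import Cfsg.Agent.S2112
import Cfsg.Agent.S2113
import Cfsg.Agent.S2114
import Cfsg.Agent.S2115
import Cfsg.Agent.S2371
import Cfsg.Agent.S2372
import Cfsg.Prelude.Def_LieTypeChar

/-!
# The exceptional rows and the assembly for groups of Lie type
-/

set_option autoImplicit false
open Cfsg

namespace Cfsg.Agent.H576.Prim

universe u w

variable {p : ℕ} [hp : Fact p.Prime]

/-! ### Chevalley groups -/

theorem good_g2 {F : Type} [Field F] [Fintype F] {r : ℕ} [CharP F r] (hr : r.Prime) (h3 : 3 ≤ Fintype.card F)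
    [Finite ↥(Cfsg.Lie.chevG2.group F)] [IsSimpleGroup ↥(Cfsg.Lie.chevG2.group F)]
    (hna : ∃ a b : ↥(Cfsg.Lie.chevG2.group F), a * b ≠ b * a) : Good.{u} p ↥(Cfsg.Lie.chevG2.group F) := by
  rcases Nat.lt_or_ge (Fintype.card F) 5 with h5 | h5
  · obtain h | h : Fintype.card F = 3 ∨ Fintype.card F = 4 := by omega
    · refine good_of_cyclic (by norm_num) (S2101.result h) fun hp3 => ?_
      obtain rfl := (Nat.prime_dvd_prime_iff_eq hp.out Nat.prime_three).1 hp3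
      obtain ⟨H, h1, h2, h4⟩ := S2371.result 3 h le_rfl
      exact fel_of_cyclic (q := 13) (k := 1) (by norm_num) (by norm_num) one_ne_zero H h1 (by rw [h2]; norm_num) h4
    · refine good_of_mult_v (N := 2) (S2102.result h) (by simp [Nat.card_zmod]) (by norm_num) fun hp2 => ?_
      obtain rfl := dvd_two_mul hp.out hp2
      obtain rfl := char_eq_of_card (k := 2) hr Nat.prime_two (by rw [h]; norm_num)
      have hfilt : KFacts.RgdFilt.HasFilt 2 ↥(Cfsg.Lie.chevG2.group F) :=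
        KFacts.RgdLieCharP.hasFilt_of_lie (Or.inr (Or.inr (Or.inr (Or.inr (Or.inr (Or.inr (Or.inl
          ⟨F, _, _, inferInstance, Or.inl ⟨h3, ⟨MulEquiv.refl _⟩⟩⟩)))))))
      refine ⟨2, by norm_num, le_v_of_charTwo (j := 1) (q := 5) (hfilt.charTwo hna) (by norm_num) (by norm_num) ?_
        (by norm_num) ?_⟩
      · rw [S1059.result h]; norm_num
      · rw [S1059.result h]; norm_num
  · exact good_of_one (S2100.result h5)

theorem good_f4 {F : Type} [Field F] [Fintype F] {r : ℕ} [CharP F r] (hr : r.Prime)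
    [Finite ↥(Cfsg.Lie.chevF4.group F)] : Good.{u} p ↥(Cfsg.Lie.chevF4.group F) := by
  rcases Nat.lt_or_ge (Fintype.card F) 3 with h5 | h5
  · have h1 : 1 < Fintype.card F := Fintype.one_lt_card
    have h : Fintype.card F = 2 := by omega
    refine good_of_cyclic (by norm_num) (S2104.result h) fun hp3 => ?_
    obtain rfl := dvd_two_mul hp.out hp3
    obtain ⟨H, h1, h2, h4⟩ := S2372.result 2 h
    exact fel_of_cyclic (q := 17) (k := 1) (by norm_num) (by norm_num) one_ne_zero H h1 (by rw [h2]; norm_num) h4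
  · exact good_of_one (S2103.result h5)

theorem good_e6 {F : Type} [Field F] [Fintype F] {r : ℕ} [CharP F r] (hr : r.Prime)
    [Finite ↥(Cfsg.Lie.chevE6.group F)] (reg : r ≠ p → ∃ x : ↥(Cfsg.Lie.chevE6.group F), FEl p x) :
    Good.{u} p ↥(Cfsg.Lie.chevE6.group F) := by
  refine good_of_cyclic ?_ (S2105.result rfl) fun h => reg ?_
  · exact (Nat.gcd_pos_of_pos_left _ (by omega)).ne'
  · exact ne_of_dvd_sub_one hr dvd_card_of_charP Fintype.card_pos (h.trans (Nat.gcd_dvd_right _ _))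

theorem good_e7 {F : Type} [Field F] [Fintype F] {r : ℕ} [CharP F r] (hr : r.Prime)
    [Finite ↥(Cfsg.Lie.chevE7.group F)] (reg : r ≠ p → ∃ x : ↥(Cfsg.Lie.chevE7.group F), FEl p x) :
    Good.{u} p ↥(Cfsg.Lie.chevE7.group F) := by
  refine good_of_cyclic ?_ (S2106.result rfl) fun h => reg ?_
  · exact (Nat.gcd_pos_of_pos_left _ (by omega)).ne'
  · exact ne_of_dvd_sub_one hr dvd_card_of_charP Fintype.card_pos (h.trans (Nat.gcd_dvd_right _ _))

theorem good_e8 {F : Type} [Field F] [Fintype F] [Finite ↥(Cfsg.Lie.chevE8.group F)] :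
    Good.{u} p ↥(Cfsg.Lie.chevE8.group F) :=
  good_of_one S2107.result

/-! ### Twisted groups -/

theorem good_twE6 {K : Type} [Field K] [Fintype K] {r : ℕ} [CharP K r] (hr : r.Prime) {q : ℕ}
    (hq : IsPrimePow q) (hK : Fintype.card K = q ^ 2)
    [Finite ↥(Cfsg.Lie.twistedE6 K q)] [IsSimpleGroup ↥(Cfsg.Lie.twistedE6 K q)]
    (hna : ∃ a b : ↥(Cfsg.Lie.twistedE6 K q), a * b ≠ b * a)
    (reg : r ≠ p → ∃ x : ↥(Cfsg.Lie.twistedE6 K q), FEl p x) :
    Good.{u} p ↥(Cfsg.Lie.twistedE6 K q) := by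
  by_cases h2 : q = 2
  · subst h2
    obtain rfl := char_eq_of_card hr Nat.prime_two hK
    have hc := S1066.result hq hK
    have hc' : 3 * Nat.card ↥(Cfsg.Lie.twistedE6 K 2) =
        2 ^ 36 * (2 ^ 2 - 1) * (2 ^ 5 + 1) * (2 ^ 6 - 1) * (2 ^ 8 - 1) * (2 ^ 9 + 1) * (2 ^ 12 - 1) := hc
    norm_num at hc'
    have hcard : Nat.card ↥(Cfsg.Lie.twistedE6 K 2) = 76532479683774853939200 := by omega
    refine good_of_mult_v (N := 12) (S2109.result (by rw [hK]; norm_num)) (by simp [Nat.card_zmod])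
      (by norm_num) fun h => ?_
    rcases eq_two_or_three (a := 2) (b := 1) hp.out h with rfl | rfl
    · have hfilt : KFacts.RgdFilt.HasFilt 2 ↥(Cfsg.Lie.twistedE6 K 2) :=
        KFacts.RgdLieCharP.hasFilt_of_lie (Or.inr (Or.inr (Or.inr (Or.inr (Or.inr (Or.inr (Or.inr
          ⟨K, _, _, inferInstance, 2, hq, Or.inl ⟨hK, ⟨MulEquiv.refl _⟩⟩⟩)))))))
      refine ⟨3, by norm_num, le_v_of_charTwo (j := 2) (q := 5) (hfilt.charTwo hna) (by norm_num) (by norm_num) ?_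
        (by norm_num) ?_⟩
      · rw [hcard]; norm_num
      · rw [hcard]; norm_num
    · obtain ⟨x, hx⟩ := reg (by norm_num)
      refine ⟨2, by norm_num, x, hx.toQEl, ?_⟩
      rw [hx.v_eq, ← Nat.prime_three.pow_dvd_iff_le_factorization Nat.card_pos.ne', hcard]
      norm_num
  · have hrq : r ∣ q := hr.dvd_of_dvd_pow (hK ▸ dvd_card_of_charP (F := K) (r := r))
    refine good_of_cyclic ?_ (S2108.result hq hK h2) fun h => reg ?_
    · exact (Nat.gcd_pos_of_pos_left _ (by omega)).ne'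
    · exact ne_of_dvd_add_one hr hrq (h.trans (Nat.gcd_dvd_right _ _))

theorem good_sz {F : Type} [Field F] [Fintype F] {m : ℕ} (hm : 1 ≤ m) (hF : Fintype.card F = 2 ^ (2 * m + 1))
    [Finite ↥(Cfsg.Lie.Sz F (2 ^ (m + 1)))] : Good.{u} p ↥(Cfsg.Lie.Sz F (2 ^ (m + 1))) := by
  rcases Nat.lt_or_ge m 2 with h | h
  · obtain rfl : m = 1 := by omega
    have hA := S2112.result (F := F) (by rw [hF]; norm_num)
    have h4 : (2 : ℕ) ^ (1 + 1) = 4 := by norm_num
    have hc := (S1163.result hm hF).1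
    refine good_of_mult_v (N := 4) (by rw [h4]; exact hA) (by simp [Nat.card_zmod]) (by norm_num) fun h => ?_
    obtain rfl := dvd_two_mul hp.out (hp.out.dvd_of_dvd_pow (n := 2) (by simpa using h))
    refine ⟨3, by norm_num, le_v_of_charTwo (j := 2) (q := 5)
      (OddHalf.Small.RankOne.sz ⟨F, _, _, 1, hm, hF, ⟨MulEquiv.refl _⟩⟩) (by norm_num) (by norm_num) ?_
      (by norm_num) ?_⟩
    · rw [hc]; norm_num
    · rw [hc]; norm_num
  · exact good_of_one (S2111.result h hF)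

/-! ### Assembly -/

/-- Regular unipotent elements for the groups of Lie type. -/
def RegLie : Prop := ∀ (X : Type) [Group X] [Finite X] (r : ℕ), IsSimpleGroup X → r.Prime → IsLieTypeChar r X →
  ∃ z : X, z ≠ 1 ∧ (∃ k, orderOf z = r ^ k) ∧ ∀ g : X, g * z = z * g → ∀ l, l.Prime → l ≠ r → orderOf g ≠ l

theorem good_lie (hreg : RegLie) {S : Type u} [Group S] [Finite S] [IsSimpleGroup S]
    (hna : ∃ a b : S, a * b ≠ b * a) {r : ℕ} (hr : r.Prime) (h : IsLieTypeChar r S) : Good.{u} p S := by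
  have key : ∀ {X : Type} [Group X] (_ : S ≃* X), Finite X ∧ IsSimpleGroup X ∧ ∃ a b : X, a * b ≠ b * a := by
    intro X _ e
    refine ⟨Finite.of_equiv _ e.toEquiv, ?_, ?_⟩
    · have : Nontrivial X := e.symm.toEquiv.nontrivial
      exact IsSimpleGroup.isSimpleGroup_of_surjective e.toMonoidHom e.surjective
    · obtain ⟨a, b, hab⟩ := hna
      exact ⟨e a, e b, fun h => hab (e.injective (by rw [map_mul, map_mul, h]))⟩
  rcases h with h | h | h | h | h | h | h | h | ⟨hr2, h⟩ | ⟨hr2, h⟩ | ⟨hr3, h⟩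
  · obtain ⟨F, _, _, _, n, h1, h2, ⟨e⟩⟩ := h
    obtain ⟨hf, hs, hn⟩ := key e
    refine Good.congr e.symm (good_psl hr n h1 h2 fun hrp => fel_of_regular hr hrp (hreg _ r hs hr ?_))
    exact Or.inl ⟨F, _, _, inferInstance, n, h1, h2, ⟨MulEquiv.refl _⟩⟩
  · obtain ⟨F, _, _, _, m, h1, h2, ⟨e⟩⟩ := h
    obtain ⟨hf, hs, hn⟩ := key e
    refine Good.congr e.symm (good_psp hr m h1 h2 fun hrp => fel_of_regular hr hrp (hreg _ r hs hr ?_))
    exact Or.inr (Or.inl ⟨F, _, _, inferInstance, m, h1, h2, ⟨MulEquiv.refl _⟩⟩)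
  · obtain ⟨F, _, _, _, n, q, h1, h2, h3, ⟨e⟩⟩ := h
    obtain ⟨hf, hs, hn⟩ := key e
    refine Good.congr e.symm (good_psu hr n q h1 h2 h3 fun hrp => fel_of_regular hr hrp (hreg _ r hs hr ?_))
    exact Or.inr (Or.inr (Or.inl ⟨F, _, _, inferInstance, n, q, h1, h2, h3, ⟨MulEquiv.refl _⟩⟩))
  · obtain ⟨F, _, _, _, m, h1, h2, ⟨e⟩⟩ := h
    obtain ⟨hf, hs, hn⟩ := key e
    refine Good.congr e.symm (good_omOdd hr m h1 h2 fun hrp => fel_of_regular hr hrp (hreg _ r hs hr ?_))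
    exact Or.inr (Or.inr (Or.inr (Or.inl ⟨F, _, _, inferInstance, m, h1, h2, ⟨MulEquiv.refl _⟩⟩)))
  · obtain ⟨F, i1, i2, i3, m, h1, ⟨e⟩⟩ := h
    obtain ⟨hf, hs, hn⟩ := key e
    refine Good.congr e.symm (good_omPlus hr m h1 fun hrp => fel_of_regular hr hrp (hreg _ r hs hr ?_))
    exact Or.inr (Or.inr (Or.inr (Or.inr (Or.inl ⟨F, i1, i2, i3, m, h1, ⟨MulEquiv.refl _⟩⟩))))
  · obtain ⟨F, i1, i2, i3, m, a, b, h1, h2, ⟨e⟩⟩ := h
    obtain ⟨hf, hs, hn⟩ := key e
    refine Good.congr e.symm (good_omMinus hr m h1 a b h2 fun hrp => fel_of_regular hr hrp (hreg _ r hs hr ?_))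
    exact Or.inr (Or.inr (Or.inr (Or.inr (Or.inr (Or.inl ⟨F, i1, i2, i3, m, a, b, h1, h2, ⟨MulEquiv.refl _⟩⟩)))))
  · obtain ⟨F, i1, i2, i3, h⟩ := h
    rcases h with ⟨h1, ⟨e⟩⟩ | ⟨⟨e⟩⟩ | ⟨⟨e⟩⟩ | ⟨⟨e⟩⟩ | ⟨⟨e⟩⟩
    · obtain ⟨hf, hs, hn⟩ := key e
      exact Good.congr e.symm (good_g2 hr h1 hn)
    · obtain ⟨hf, hs, hn⟩ := key e
      exact Good.congr e.symm (good_f4 hr)
    · obtain ⟨hf, hs, hn⟩ := key e
      refine Good.congr e.symm (good_e6 hr fun hrp => fel_of_regular hr hrp (hreg _ r hs hr ?_))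
      exact Or.inr (Or.inr (Or.inr (Or.inr (Or.inr (Or.inr (Or.inl ⟨F, i1, i2, i3,
        Or.inr (Or.inr (Or.inl ⟨MulEquiv.refl _⟩))⟩))))))
    · obtain ⟨hf, hs, hn⟩ := key e
      refine Good.congr e.symm (good_e7 hr fun hrp => fel_of_regular hr hrp (hreg _ r hs hr ?_))
      exact Or.inr (Or.inr (Or.inr (Or.inr (Or.inr (Or.inr (Or.inl ⟨F, i1, i2, i3,
        Or.inr (Or.inr (Or.inr (Or.inl ⟨MulEquiv.refl _⟩)))⟩))))))
    · obtain ⟨hf, hs, hn⟩ := key e
      exact Good.congr e.symm good_e8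
  · obtain ⟨F, i1, i2, i3, q, hq, h⟩ := h
    rcases h with ⟨h1, ⟨e⟩⟩ | ⟨h1, ⟨e⟩⟩
    · obtain ⟨hf, hs, hn⟩ := key e
      refine Good.congr e.symm (good_twE6 hr hq h1 hn fun hrp => fel_of_regular hr hrp (hreg _ r hs hr ?_))
      exact Or.inr (Or.inr (Or.inr (Or.inr (Or.inr (Or.inr (Or.inr (Or.inl ⟨F, i1, i2, i3, q, hq,
        Or.inl ⟨h1, ⟨MulEquiv.refl _⟩⟩⟩)))))))
    · obtain ⟨hf, hs, hn⟩ := key e
      exact Good.congr e.symm (good_of_one (S2110.result hq h1))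
  · obtain ⟨F, _, _, m, h1, h2, ⟨e⟩⟩ := h
    obtain ⟨hf, hs, hn⟩ := key e
    exact Good.congr e.symm (good_sz h1 h2)
  · obtain ⟨F, _, _, m, h1, h2, ⟨e⟩⟩ := h
    obtain ⟨hf, hs, hn⟩ := key e
    exact Good.congr e.symm (good_of_one (S2114.result h1 h2))
  · obtain ⟨F, _, _, m, h1, h2, ⟨e⟩⟩ := h
    obtain ⟨hf, hs, hn⟩ := key e
    exact Good.congr e.symm (good_of_one (S2113.result h1 h2))

theorem good_of_equiv_one {S : Type u} [Group S] [Finite S] {X : Type} [Group X] (h : Nonempty (S ≃* X))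
    (hA : Cfsg.HasCyclicSchurMultiplier X 1) : Good.{u} p S := by
  obtain ⟨e⟩ := h
  have : Finite X := Finite.of_equiv _ e.toEquiv
  exact Good.congr e.symm (good_of_one hA)

theorem good_tits {S : Type u} [Group S] [Finite S] (h : Lie.IsoTits S) : Good.{u} p S := by
  refine good_of_equiv_one (X := Lie.TitsGroup) ?_ ?_
  · exact h
  · exact S2115.result

end Cfsg.Agent.H576.Prim
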