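import Cfsg.Agent.H576.PrimExc
import Cfsg.Agent.KFacts.J3
import Cfsg.Agent.TypeM.FactsMcL
import Cfsg.Agent.SporRec.LyFiveCov
import Cfsg.Agent.SuzThree.CentCard
import Cfsg.Agent.SuzThree.Transport
import Cfsg.Agent.UGT.C.BalONCard
import Cfsg.Agent.R01.Fi22Facts
import Cfsg.Agent.PreUniq.Fi24S
import Cfsg.Agent.Lib.ModFour
import Cfsg.Agent.ONType.TupleClass
import Cfsg.Agent.S1694
import Cfsg.Agent.S1698
import Cfsg.Agent.S1699

/-!
# Sporadic groups: the `3`-part of the class of an involution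
-/

set_option autoImplicit false
open Cfsg

namespace Cfsg.Agent.H576.Prim

universe u w

section gen

variable {p : ℕ} [hp : Fact p.Prime] {X : Type w} [Group X] [Finite X]

/-- The `p`-part of a class size from the orders. -/
theorem le_v_of_card {x : X} {c m N : ℕ} (hN : Nat.card X = N)
    (hc : Nat.card (Subgroup.centralizer ({x} : Set X)) = c) (h : p ^ m * c ∣ N) : m ≤ v p x := by
  have h1 : (Subgroup.centralizer ({x} : Set X)).index * c = N := by
    rw [← hc, ← hN]; exact Subgroup.index_mul_card _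
  have hc0 : 0 < c := by rw [← hc]; exact Nat.card_pos
  have h2 : p ^ m ∣ (Subgroup.centralizer ({x} : Set X)).index :=
    Nat.dvd_of_mul_dvd_mul_right hc0 (by rw [h1]; exact h)
  exact (hp.out.pow_dvd_iff_le_factorization Subgroup.index_ne_zero_of_finite).1 h2

omit hp [Finite X] in
theorem qel_inv (hp2 : p ≠ 2) {z : X} (hz1 : z ≠ 1) (hzz : z * z = 1) : QEl p z :=
  ⟨hz1, 2, 1, Nat.prime_two, hp2.symm, by rw [pow_one]; exact orderOf_eq_prime (by rw [pow_two]; exact hzz) hz1⟩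

/-- An element of order prime to 3 whose class size is divisible by 9. -/
def Nine (X : Type w) [Group X] : Prop := ∃ x : X, QEl 3 x ∧ 2 ≤ v 3 x

theorem nine_of_inv {z : X} (hz1 : z ≠ 1) (hzz : z * z = 1) {c N : ℕ} (hN : Nat.card X = N)
    (hc : Nat.card (Subgroup.centralizer ({z} : Set X)) = c) (h : 9 * c ∣ N) : Nine X := by
  have : Fact (Nat.Prime 3) := ⟨Nat.prime_three⟩
  exact ⟨z, qel_inv (by norm_num) hz1 hzz, le_v_of_card hN hc (by norm_num; exact h)⟩

end gen

theorem v_equiv {p : ℕ} {X : Type u} {Y : Type w} [Group X] [Group Y] (e : X ≃* Y) (x : X) : v p (e x) = v p x := by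
  unfold v
  rw [Cfsg.Agent.H647.index_centralizer_equiv]

theorem QEl.equiv {p : ℕ} {X : Type u} {Y : Type w} [Group X] [Group Y] (e : X ≃* Y) {x : X} (h : QEl p x) :
    QEl p (e x) := by
  obtain ⟨h1, q, k, hq, hqp, ho⟩ := h
  refine ⟨fun h => h1 (e.injective (by rw [h, map_one])), q, k, hq, hqp, ?_⟩
  rw [← ho]
  exact orderOf_injective e.toMonoidHom e.injective x

theorem Nine.equiv {X : Type u} {Y : Type w} [Group X] [Group Y] (e : X ≃* Y) (h : Nine X) : Nine Y := by
  obtain ⟨x, hx, hv⟩ := h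
  exact ⟨e x, hx.equiv e, by rw [v_equiv]; exact hv⟩

/-! ### `J₃` -/

theorem nine_j3 {X : Type u} [Group X] [Finite X] (h : Spor.IsoJ3 X) : Nine X := by
  obtain ⟨-, z, Q, v, ρ, n, u, F⟩ := Cfsg.Agent.KFacts.J3.exists_facts h
  refine nine_of_inv (z := z) ?_ ?_ F.card_K F.card_C (by norm_num)
  · intro h1
    apply F.model.z_ne
    exact Subtype.ext h1
  · exact congrArg Subtype.val F.model.z_sq

/-! ### `McL` -/

theorem nine_mcl {X : Type u} [Group X] (h : Spor.IsoMcL X) : Nine X := by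
  obtain ⟨hfin, -, hc, ⟨L⟩⟩ := Cfsg.Agent.TypeM.FactsMcL.facts h
  have h1 := Cfsg.Agent.SporRec.LyFiveCov.card_eq L.K (by simp)
  rw [Fintype.card_fin] at h1
  refine nine_of_inv (z := L.t) L.t_ne L.t_mul_t hc h1 ?_
  simp [Nat.factorial]

/-! ### `Suz` -/

theorem nine_suz {X : Type u} [Group X] (h : Spor.IsoSuz X) : Nine X := by
  obtain ⟨e⟩ := h
  have hc : Nat.card Spor.Suz = 448345497600 := S1694.result.2
  have hf : Finite Spor.Suz := Nat.finite_of_card_ne_zero (by rw [hc]; norm_num)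
  refine Nine.equiv e.symm (nine_of_inv Cfsg.Agent.SuzThree.Transport.z0_ne Cfsg.Agent.SuzThree.QZero.z_sq hc
    Cfsg.Agent.SuzThree.CentCard.card_C1 ?_)
  norm_num

/-! ### `O'N` -/

theorem nine_on {X : Type u} [Group X] (h : Spor.IsoON X) : Nine X := by
  obtain ⟨e⟩ := h
  have hc : Nat.card Spor.ON = 460815505920 := S1699.result.2
  have hf : Finite Spor.ON := Nat.finite_of_card_ne_zero (by rw [hc]; norm_num)
  have h1 := Cfsg.Agent.UGT.C.BalONCard.card_centralizer S1699.result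
  refine Nine.equiv e.symm (nine_of_inv ?_ ?_ hc h1 ?_)
  · intro h2
    rw [h2] at h1
    have h3 : Subgroup.centralizer ({(1 : Spor.ON)} : Set Spor.ON) = ⊤ := by
      rw [eq_top_iff]
      intro g _
      rw [Subgroup.mem_centralizer_singleton_iff, mul_one, one_mul]
    rw [h3, Subgroup.card_top, hc] at h1
    omega
  · exact Cfsg.Agent.ONType.TupleClass.ff S1699.result.1
  · norm_num

/-! ### `Fi₂₂` -/

theorem nine_fi22 {X : Type u} [Group X] (h : Spor.IsoFi22 X) : Nine X := by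
  obtain ⟨e⟩ := h
  refine Nine.equiv e.symm ?_
  have hf : Finite Spor.Fi22 := Cfsg.Agent.R01.Fi22Facts.finite
  obtain ⟨⟨h1, -⟩, ⟨d, hd, hT⟩, -⟩ := Cfsg.Agent.R01.Fi22Facts.isThreeTranspositionClass_T
  have h2 := Cfsg.Agent.R01.Fi22Facts.ncard_T
  have ho := h1 d hd
  have hidx : (Subgroup.centralizer ({d} : Set Spor.Fi22)).index = 3510 := by
    rw [← Cfsg.Agent.Lib.ModFour.card_isConj d, ← h2, hT, ← Nat.card_coe_set_eq]
    rfl
  have : Fact (Nat.Prime 3) := ⟨Nat.prime_three⟩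
  refine ⟨d, ⟨?_, 2, 1, Nat.prime_two, by norm_num, by rw [ho, pow_one]⟩, ?_⟩
  · rintro rfl
    rw [orderOf_one] at ho
    omega
  · unfold v
    rw [hidx, ← Nat.prime_three.pow_dvd_iff_le_factorization (by norm_num)]
    norm_num

/-! ### `Fi₂₄'` -/

theorem nine_fi24 {X : Type u} [Group X] (h : Spor.IsoFi24' X) : Nine X := by
  obtain ⟨e⟩ := h
  have hc : Nat.card Spor.Fi24' = 1255205709190661721292800 := S1698.result.2
  have hf : Finite Spor.Fi24' := Nat.finite_of_card_ne_zero (by rw [hc]; norm_num)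
  refine Nine.equiv e.symm ?_
  refine nine_of_inv (X := Spor.Fi24') (z := Cfsg.Agent.KFacts.FiTF.Abs.zK Cfsg.Agent.KFacts.FiTF.frame) ?_ ?_ hc
    Cfsg.Agent.PreUniq.FiTF.Z.card_CK_eq ?_
  · intro h1
    exact Cfsg.Agent.KFacts.FiTF.Tet.z_ne (congrArg Subtype.val h1)
  · exact Subtype.ext Cfsg.Agent.KFacts.FiTF.Tet.zz
  · norm_num

end Cfsg.Agent.H576.Prim
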