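import Cfsg.Agent.H576.PrimM22
import Cfsg.Agent.H576.PrimSpor3
import Cfsg.Agent.H647.FourEven
import Cfsg.Agent.NotCT.Orders
import Cfsg.Agent.H235.EvenSpor
import Cfsg.Agent.H235.EvenMon
import Cfsg.Agent.H235.EvenFiTwo
import Cfsg.Agent.Omega.Quasithin.Row.MTwelve
import Cfsg.Agent.Omega.Quasithin.Row.J2
import Cfsg.Agent.Omega.Quasithin.Row.HS
import Cfsg.Agent.Omega.Quasithin.Row.Ru
import Cfsg.Agent.S2034
import Cfsg.Agent.S2035
import Cfsg.Agent.S2037
import Cfsg.Agent.S2038
import Cfsg.Agent.S2039
import Cfsg.Agent.S2040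
import Cfsg.Agent.S2041
import Cfsg.Agent.S2042
import Cfsg.Agent.S2043
import Cfsg.Agent.S2044
import Cfsg.Agent.S2045
import Cfsg.Agent.S2046
import Cfsg.Agent.S2047
import Cfsg.Agent.S2048
import Cfsg.Agent.S2049
import Cfsg.Agent.S2050
import Cfsg.Agent.S2051
import Cfsg.Agent.S2052
import Cfsg.Agent.S2053
import Cfsg.Agent.S2054
import Cfsg.Agent.S2055
import Cfsg.Agent.S2056
import Cfsg.Agent.S2057
import Cfsg.Agent.S2058
import Cfsg.Agent.S2059
import Cfsg.Prelude.Def_Classification2

/-!
# The sporadic groups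
-/

set_option autoImplicit false
open Cfsg

namespace Cfsg.Agent.H576.Prim

universe u

open Cfsg.Agent.H647 (Four four_of_even)
open Cfsg.Agent.NotCT

variable {p : ℕ} [hp : Fact p.Prime] {S : Type u} [Group S] [Finite S]

/-- A cyclic multiplier of order dividing 6. -/
theorem good_of_equiv_mult {X : Type} [Group X] {N : ℕ} (h : Nonempty (S ≃* X))
    (hA : Cfsg.HasCyclicSchurMultiplier X N) (hN : N ∣ 6) (h2 : 2 ∣ N → Four S) (h3 : 3 ∣ N → Nine S) :
    Good.{u} p S := by
  obtain ⟨e⟩ := h
  have hf : Finite X := Finite.of_equiv _ e.toEquiv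
  have hN0 : N ≠ 0 := by rintro rfl; omega
  refine Good.congr e.symm (good_of_mult_v (N := N) hA (by rw [Nat.card_congr Multiplicative.toAdd, Nat.card_zmod])
    hN0 fun hpN => ?_)
  have hp6 : p ∣ 2 * 3 := hpN.trans (by simpa using hN)
  rcases (hp.out.dvd_mul.1 hp6) with h | h
  · obtain rfl := (Nat.prime_dvd_prime_iff_eq hp.out Nat.prime_two).1 h
    obtain ⟨x, hx, hv⟩ := two_le_v_of_four (h2 hpN)
    refine ⟨2, fun h4 => ?_, e x, hx.equiv e, by rw [v_equiv]; exact hv⟩
    have := h4.trans hN
    omega
  · obtain rfl := (Nat.prime_dvd_prime_iff_eq hp.out Nat.prime_three).1 h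
    obtain ⟨x, hx, hv⟩ := h3 hpN
    refine ⟨2, fun h4 => ?_, e x, hx.equiv e, by rw [v_equiv]; exact hv⟩
    have := h4.trans hN
    omega

/-! ### Groups of even characteristic -/

theorem four_m12 (h : Spor.IsoM12 S) : Four S :=
  four_of_even (Omega.Quasithin.M12.row_m12 S h) (by rw [Orders.m12 h]; norm_num) (r := 3) (by norm_num) (by norm_num)
    (by rw [Orders.m12 h]; norm_num)

theorem four_j2 (h : Spor.IsoJ2 S) : Four S :=
  four_of_even (Omega.Quasithin.Row.J2.row_j2 S h) (by rw [Orders.j2 h]; norm_num) (r := 3) (by norm_num)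
    (by norm_num) (by rw [Orders.j2 h]; norm_num)

theorem four_hs (h : Spor.IsoHS S) : Four S :=
  four_of_even (Omega.Quasithin.Row.HS.row_hs S h) (by rw [Orders.hs h]; norm_num) (r := 3) (by norm_num)
    (by norm_num) (by rw [Orders.hs h]; norm_num)

theorem four_ru (h : Spor.IsoRu S) : Four S :=
  four_of_even (Omega.Quasithin.Ru.row_ru S h) (by rw [Orders.ru h]; norm_num) (r := 3) (by norm_num)
    (by norm_num) (by rw [Orders.ru h]; norm_num)

theorem four_co1 (h : Spor.IsoCo1 S) : Four S :=
  four_of_even (H235.EvenSpor.coOne h) (by rw [Orders.co1 h]; norm_num) (r := 3) (by norm_num)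
    (by norm_num) (by rw [Orders.co1 h]; norm_num)

theorem four_suz (h : Spor.IsoSuz S) : Four S :=
  four_of_even (H235.EvenSpor.suz h) (by rw [Orders.suz h]; norm_num) (r := 3) (by norm_num)
    (by norm_num) (by rw [Orders.suz h]; norm_num)

theorem four_fi22 (h : Spor.IsoFi22 S) : Four S :=
  four_of_even (H235.EvenFiTwo.fiTwo h) (by rw [Orders.fi22 h]; norm_num) (r := 3) (by norm_num)
    (by norm_num) (by rw [Orders.fi22 h]; norm_num)

theorem four_b (h : Spor.IsoB S) : Four S :=
  four_of_even (H235.EvenMon.baby h) (by rw [Orders.b h]; norm_num) (r := 3) (by norm_num)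
    (by norm_num) (by rw [Orders.b h]; norm_num)

/-! ### Assembly -/

theorem good_spor_a (h : Spor.IsoM11 S ∨ Spor.IsoM12 S ∨ Spor.IsoM22 S ∨ Spor.IsoM23 S ∨ Spor.IsoM24 S
    ∨ Spor.IsoJ1 S ∨ Spor.IsoJ2 S ∨ Spor.IsoJ3 S ∨ Spor.IsoJ4 S) : Good.{u} p S := by
  rcases h with h | h | h | h | h | h | h | h | h
  · exact good_of_equiv_one h S2034.result
  · exact good_of_equiv_mult h S2035.result (by norm_num) (fun _ => four_m12 h) (fun h => absurd h (by norm_num))
  · exact good_m22 h
  · exact good_of_equiv_one h S2037.result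
  · exact good_of_equiv_one h S2038.result
  · exact good_of_equiv_one h S2039.result
  · exact good_of_equiv_mult h S2040.result (by norm_num) (fun _ => four_j2 h) (fun h => absurd h (by norm_num))
  · obtain ⟨F, i1, i2, ω, hF, hω, e⟩ := id h
    exact good_of_equiv_mult e (S2041.result hF ω hω) (by norm_num) (fun h => absurd h (by norm_num))
      (fun _ => nine_j3 h)
  · exact good_of_equiv_one h S2042.result

theorem good_spor_b (h : Spor.IsoCo1 S ∨ Spor.IsoCo2 S ∨ Spor.IsoCo3 S ∨ Spor.IsoMcL S ∨ Spor.IsoHS S ∨ Spor.IsoSuz S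
    ∨ Spor.IsoHe S ∨ Spor.IsoRu S ∨ Spor.IsoON S ∨ Spor.IsoLy S) : Good.{u} p S := by
  rcases h with h | h | h | h | h | h | h | h | h | h
  · exact good_of_equiv_mult h S2043.result (by norm_num) (fun _ => four_co1 h) (fun h => absurd h (by norm_num))
  · exact good_of_equiv_one h S2044.result
  · exact good_of_equiv_one h S2045.result
  · exact good_of_equiv_mult h S2047.result (by norm_num) (fun h => absurd h (by norm_num)) (fun _ => nine_mcl h)
  · exact good_of_equiv_mult h S2046.result (by norm_num) (fun _ => four_hs h) (fun h => absurd h (by norm_num))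
  · exact good_of_equiv_mult h S2048.result (by norm_num) (fun _ => four_suz h) (fun _ => nine_suz h)
  · exact good_of_equiv_one h S2049.result
  · exact good_of_equiv_mult h S2051.result (by norm_num) (fun _ => four_ru h) (fun h => absurd h (by norm_num))
  · exact good_of_equiv_mult h S2052.result (by norm_num) (fun h => absurd h (by norm_num)) (fun _ => nine_on h)
  · exact good_of_equiv_one h S2050.result

theorem good_spor_c (h : Spor.IsoFi22 S ∨ Spor.IsoFi23 S ∨ Spor.IsoFi24' S
    ∨ Spor.IsoHN S ∨ Spor.IsoTh S ∨ Spor.IsoB S ∨ Spor.IsoM S) : Good.{u} p S := by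
  rcases h with h | h | h | h | h | h | h
  · exact good_of_equiv_mult h S2053.result (by norm_num) (fun _ => four_fi22 h) (fun _ => nine_fi22 h)
  · exact good_of_equiv_one h S2054.result
  · exact good_of_equiv_mult h S2055.result (by norm_num) (fun h => absurd h (by norm_num)) (fun _ => nine_fi24 h)
  · exact good_of_equiv_one h S2056.result
  · exact good_of_equiv_one h S2057.result
  · exact good_of_equiv_mult h S2058.result (by norm_num) (fun _ => four_b h) (fun h => absurd h (by norm_num))
  · exact good_of_equiv_one h S2059.result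

/-- **The sporadic groups.** -/
theorem good_spor (h : IsSporadicGroup S) : Good.{u} p S := by
  rcases h with h | h | h | h | h | h | h | h | h | h | h | h | h | h | h | h | h | h | h | h | h | h | h | h | h | h
  · exact good_spor_a (by simp [h])
  · exact good_spor_a (by simp [h])
  · exact good_spor_a (by simp [h])
  · exact good_spor_a (by simp [h])
  · exact good_spor_a (by simp [h])
  · exact good_spor_a (by simp [h])
  · exact good_spor_a (by simp [h])
  · exact good_spor_a (by simp [h])
  · exact good_spor_a (by simp [h])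
  · exact good_spor_b (by simp [h])
  · exact good_spor_b (by simp [h])
  · exact good_spor_b (by simp [h])
  · exact good_spor_b (by simp [h])
  · exact good_spor_b (by simp [h])
  · exact good_spor_b (by simp [h])
  · exact good_spor_b (by simp [h])
  · exact good_spor_b (by simp [h])
  · exact good_spor_b (by simp [h])
  · exact good_spor_b (by simp [h])
  · exact good_spor_c (by simp [h])
  · exact good_spor_c (by simp [h])
  · exact good_spor_c (by simp [h])
  · exact good_spor_c (by simp [h])
  · exact good_spor_c (by simp [h])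
  · exact good_spor_c (by simp [h])
  · exact good_spor_c (by simp [h])

end Cfsg.Agent.H576.Prim
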