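import Cfsg.Agent.H576.PrimAlt
import Cfsg.Agent.H576.PrimExc
import Cfsg.Agent.H576.PrimSpor
import Cfsg.Agent.H463.LieReg
import Cfsg.Agent.OddHalf.Known

/-!
# Every known nonabelian simple group is good
-/

set_option autoImplicit false
open Cfsg

namespace Cfsg.Agent.H576.Prim

universe u

theorem regLie : RegLie := fun _ _ _ _ hs _ h => Cfsg.Agent.H463.LieReg.exists_regular hs h

/-- **Every known nonabelian simple group is good.** -/
theorem good_known {p : ℕ} [hp : Fact p.Prime] {S : Type u} [Group S] [Finite S] [IsSimpleGroup S]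
    (hna : ∃ x y : S, x * y ≠ y * x) (hk : IsKnownSimple' S) : Good.{u} p S := by
  have hna' : ¬ IsMulCommutative S := by
    rintro ⟨⟨h⟩⟩
    obtain ⟨x, y, hxy⟩ := hna
    exact hxy (h x y)
  rcases Cfsg.Agent.OddHalf.Known.classify' hna' hk with h | ⟨r, hr, h⟩ | h | h
  · obtain ⟨n, hn, ⟨e⟩⟩ := h
    exact Good.congr e.symm (good_alternating p n hn)
  · exact good_lie regLie hna hr h
  · exact good_tits h
  · exact good_spor h

end Cfsg.Agent.H576.Prim
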