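import Cfsg.Agent.H576.PrimGood
import Cfsg.Agent.S0892
import Cfsg.Agent.S2116

/-!
# The alternating groups
-/

set_option autoImplicit false
open Cfsg

namespace Cfsg.Agent.H576.Prim

universe u

open Equiv.Perm

/-- Good if all kernels have order at most two. -/
theorem good_of_le_two {p : ℕ} [hp : Fact p.Prime] {S : Type} [Group S] [Finite S]
    (h : ∀ (M : Type u) [Group M] [Finite M] (L : Subgroup M) (π : L →* S), Function.Surjective π →
      Group.IsPerfect L → π.ker = Subgroup.center L → Nat.card (Subgroup.center L) ≤ 2)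
    (h2 : p = 2 → ∃ x : S, QEl p x ∧ 2 ≤ v p x) : Good.{u} p S := by
  intro M _ _ L π a hc
  have h1 := h M L π hc.surj hc.perf hc.ker
  obtain ⟨n, hn⟩ := (IsPGroup.iff_card).1 hc.kp
  have hn0 : n ≠ 0 := by
    rintro rfl
    rw [pow_zero, Subgroup.card_eq_one] at hn
    exact hc.kne hn
  have hp2 : p = 2 := by
    have h3 : p ^ 1 ≤ p ^ n := Nat.pow_le_pow_right hp.out.pos (by omega)
    have h4 := hp.out.two_le
    rw [← hn, pow_one] at h3
    omega
  obtain ⟨x, hx, hvx⟩ := h2 hp2
  obtain ⟨q, k, hq, hqp, hxo⟩ := hx.ord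
  have h3 := hc.v_le hq hqp hx.ne hxo
  have h4 := hc.pow_le
  have h5 : p ^ 2 ≤ p ^ a := Nat.pow_le_pow_right hp.out.pos (by omega)
  subst hp2
  omega

/-- The class of a 5-cycle. -/
theorem exists_five (n : ℕ) (hn : 5 ≤ n) :
    ∃ x : alternatingGroup (Fin n), orderOf x = 5 ∧
      n.descFactorial 5 ∣ 10 * (Subgroup.centralizer ({x} : Set (alternatingGroup (Fin n)))).index := by
  obtain ⟨c, hc⟩ := (exists_with_cycleType_iff (Fin n) (m := {5})).2 (by
    constructor
    · simpa using hn
    · simp)
  have hsign : c ∈ alternatingGroup (Fin n) := by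
    rw [mem_alternatingGroup, sign_of_cycleType, hc]
    decide
  have hord : orderOf c = 5 := by
    rw [← lcm_cycleType, hc]; simp
  refine ⟨⟨c, hsign⟩, by rw [Subgroup.orderOf_mk, hord], ?_⟩
  set x : alternatingGroup (Fin n) := ⟨c, hsign⟩ with hx
  have hcent : Nat.card (Subgroup.centralizer ({c} : Set (Equiv.Perm (Fin n)))) = (n - 5).factorial * 5 := by
    rw [nat_card_centralizer, hc]
    simp
  have h1 : Nat.card (Subgroup.centralizer ({x} : Set (alternatingGroup (Fin n)))) ∣ (n - 5).factorial * 5 := by
    rw [← hcent]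
    have h2 : Nat.card ((Subgroup.centralizer ({x} : Set (alternatingGroup (Fin n)))).map
        (alternatingGroup (Fin n)).subtype) =
        Nat.card (Subgroup.centralizer ({x} : Set (alternatingGroup (Fin n)))) :=
      Subgroup.card_map_of_injective (Subgroup.subtype_injective _)
    rw [← h2]
    apply Subgroup.card_dvd_of_le
    rintro _ ⟨g, hg, rfl⟩
    rw [Subgroup.mem_centralizer_singleton_iff]
    exact congrArg Subtype.val (Subgroup.mem_centralizer_singleton_iff.1 hg)
  have h3 := Subgroup.card_mul_index (Subgroup.centralizer ({x} : Set (alternatingGroup (Fin n))))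
  have h4 : 2 * Nat.card (alternatingGroup (Fin n)) = n.factorial := by
    have : Nontrivial (Fin n) := Fin.nontrivial_iff_two_le.2 (by omega)
    rw [two_mul_nat_card_alternatingGroup, Nat.card_perm, Nat.card_eq_fintype_card, Fintype.card_fin]
  have h5 : n.descFactorial 5 * (n - 5).factorial = n.factorial := by
    rw [mul_comm]; exact Nat.factorial_mul_descFactorial hn
  obtain ⟨d, hd⟩ := h1
  set C := Nat.card (Subgroup.centralizer ({x} : Set (alternatingGroup (Fin n)))) with hC
  set I := (Subgroup.centralizer ({x} : Set (alternatingGroup (Fin n)))).index with hI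
  refine ⟨d, ?_⟩
  have hCpos : 0 < C := Nat.card_pos
  apply Nat.eq_of_mul_eq_mul_left hCpos
  calc C * (10 * I) = 5 * (2 * (C * I)) := by ring
    _ = 5 * n.factorial := by rw [h3, h4]
    _ = 5 * (n.descFactorial 5 * (n - 5).factorial) := by rw [h5]
    _ = n.descFactorial 5 * ((n - 5).factorial * 5) := by ring
    _ = n.descFactorial 5 * (C * d) := by rw [hd]
    _ = C * (n.descFactorial 5 * d) := by ring

theorem four_dvd_five (n : ℕ) (hn : 5 ≤ n) :
    ∃ x : alternatingGroup (Fin n), QEl 2 x ∧ 2 ≤ v 2 x := by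
  obtain ⟨x, hx, hd⟩ := exists_five n hn
  refine ⟨x, ⟨?_, 5, 1, by norm_num, by norm_num, by rw [hx, pow_one]⟩, ?_⟩
  · rintro rfl
    rw [orderOf_one] at hx
    omega
  · have h1 : Nat.factorial 5 ∣ n.descFactorial 5 := Nat.factorial_dvd_descFactorial n 5
    have h2 := h1.trans hd
    have h3 : 12 * 10 ∣ 10 * (Subgroup.centralizer ({x} : Set (alternatingGroup (Fin n)))).index := by
      simpa [Nat.factorial] using h2
    have h4 : 12 ∣ (Subgroup.centralizer ({x} : Set (alternatingGroup (Fin n)))).index := by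
      rw [mul_comm 12 10] at h3
      exact Nat.dvd_of_mul_dvd_mul_left (by norm_num) h3
    rw [← Nat.prime_two.pow_dvd_iff_le_factorization Subgroup.index_ne_zero_of_finite]
    exact (by norm_num : 2 ^ 2 ∣ 12).trans h4

theorem nine_dvd_five (n : ℕ) (hn : n = 6 ∨ n = 7) :
    ∃ x : alternatingGroup (Fin n), QEl 3 x ∧ 2 ≤ v 3 x := by
  obtain ⟨x, hx, hd⟩ := exists_five n (by omega)
  refine ⟨x, ⟨?_, 5, 1, by norm_num, by norm_num, by rw [hx, pow_one]⟩, ?_⟩
  · rintro rfl
    rw [orderOf_one] at hx
    omega
  · have h3 : 3 ^ 2 ∣ n.descFactorial 5 := by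
      rcases hn with rfl | rfl <;> decide
    have h4 : 3 ^ 2 ∣ (Subgroup.centralizer ({x} : Set (alternatingGroup (Fin n)))).index := by
      exact (Nat.Coprime.dvd_of_dvd_mul_left (by norm_num) (h3.trans hd))
    rwa [← Nat.prime_three.pow_dvd_iff_le_factorization Subgroup.index_ne_zero_of_finite]

/-- **The alternating groups.** -/
theorem good_alternating (p : ℕ) [hp : Fact p.Prime] (n : ℕ) (hn : 5 ≤ n) :
    Good.{u} p (alternatingGroup (Fin n)) := by
  by_cases h67 : n = 6 ∨ n = 7
  · have hA := Cfsg.Agent.S2116.result n h67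
    refine good_of_mult hA ?_ ?_
    · rw [Nat.card_congr Multiplicative.toAdd, Nat.card_zmod]; norm_num
    · rw [Nat.card_congr Multiplicative.toAdd, Nat.card_zmod]
      intro hd
      have h6 : Nat.factorization 6 2 = 1 := by
        have : (6 : ℕ) = 2 * 3 := by norm_num
        rw [this, Nat.factorization_mul (by norm_num) (by norm_num), Finsupp.add_apply,
          Nat.prime_two.factorization_self, Nat.factorization_eq_zero_of_not_dvd (by norm_num)]
      have h6' : Nat.factorization 6 3 = 1 := by
        have : (6 : ℕ) = 2 * 3 := by norm_num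
        rw [this, Nat.factorization_mul (by norm_num) (by norm_num), Finsupp.add_apply,
          Nat.prime_three.factorization_self, Nat.factorization_eq_zero_of_not_dvd (by norm_num)]
      have h7 : p ∣ 2 * 3 := by simpa using hd
      rcases (Nat.Prime.dvd_mul hp.out).1 h7 with h | h
      · have h8 := (Nat.prime_dvd_prime_iff_eq hp.out Nat.prime_two).1 h
        subst h8
        obtain ⟨x, hx, hv⟩ := four_dvd_five n hn
        exact ⟨x, hx, by omega⟩
      · have h8 := (Nat.prime_dvd_prime_iff_eq hp.out Nat.prime_three).1 h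
        subst h8
        obtain ⟨x, hx, hv⟩ := nine_dvd_five n h67
        exact ⟨x, hx, by omega⟩
  · push Not at h67
    refine good_of_le_two ?_ ?_
    · intro M _ _ L π hs hL hk
      have hkn : (π.ker).Normal := inferInstance
      have h1 := Cfsg.Agent.S0892.result n (by omega) h67.1 h67.2 π.ker hk.le
        (by rw [hL.commutator_eq_top]; exact le_top) (QuotientGroup.quotientKerEquivOfSurjective π hs)
      rwa [hk] at h1
    · rintro rfl
      exact four_dvd_five n hn

end Cfsg.Agent.H576.Prim
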