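import Cfsg.Agent.H576.PrimLocal
import Cfsg.Agent.H576.PrimAlt
import Cfsg.Agent.OddHalf.Small.Orth
import Cfsg.Agent.OddHalf.D6.QThree.PumpKnown
import Cfsg.Agent.S0243
import Cfsg.Agent.S0252
import Cfsg.Agent.S0254
import Cfsg.Agent.S0256
import Cfsg.Agent.S0278
import Cfsg.Agent.S0280
import Cfsg.Agent.S0292
import Cfsg.Agent.S0293
import Cfsg.Agent.S0822
import Cfsg.Agent.S2086
import Cfsg.Agent.S2087
import Cfsg.Agent.S2088
import Cfsg.Agent.S2089
import Cfsg.Agent.S2090
import Cfsg.Agent.S2091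
import Cfsg.Agent.S2092
import Cfsg.Agent.S2093
import Cfsg.Agent.S2094
import Cfsg.Agent.S2095
import Cfsg.Agent.S2096
import Cfsg.Agent.S2097
import Cfsg.Agent.S2098
import Cfsg.Agent.S2099
import Cfsg.Agent.S2365
import Cfsg.Agent.S2472
import Cfsg.Agent.S2474
import Cfsg.Agent.S2476

/-!
# The classical rows

`reg` : in cross characteristic there is an element (regular unipotent) whose centralizer has order prime to `p`.
-/

set_option autoImplicit false
open Cfsg

namespace Cfsg.Agent.H576.Prim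

universe u w

variable {p : ℕ} [hp : Fact p.Prime]

omit hp in
theorem dvd_card_of_charP {F : Type*} [Field F] [Fintype F] {r : ℕ} [CharP F r] : r ∣ Fintype.card F :=
  (CharP.cast_eq_zero_iff F r _).1 (FiniteField.cast_card_eq_zero F)

omit hp in
theorem ne_of_dvd_sub_one {r Q p : ℕ} (hr : r.Prime) (hrQ : r ∣ Q) (hQ : 0 < Q) (h : p ∣ Q - 1) : r ≠ p := by
  rintro rfl
  have h1 := (Nat.dvd_sub_iff_right hQ hrQ).1 h
  exact hr.one_lt.ne' (Nat.dvd_one.1 h1)

omit hp in
theorem ne_of_dvd_add_one {r Q p : ℕ} (hr : r.Prime) (hrQ : r ∣ Q) (h : p ∣ Q + 1) : r ≠ p := by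
  rintro rfl
  have h1 := (Nat.dvd_add_right hrQ).1 h
  exact hr.one_lt.ne' (Nat.dvd_one.1 h1)

omit hp in
theorem char_eq_of_card {F : Type*} [Field F] [Fintype F] {r l k : ℕ} [CharP F r] (hr : r.Prime) (hl : l.Prime)
    (h : Fintype.card F = l ^ k) : r = l := by
  have h1 : r ∣ l ^ k := h ▸ dvd_card_of_charP
  exact (Nat.prime_dvd_prime_iff_eq hr hl).1 (hr.dvd_of_dvd_pow h1)

omit hp in
theorem dvd_two_mul {p : ℕ} (hp : p.Prime) (h : p ∣ 2) : p = 2 :=
  (Nat.prime_dvd_prime_iff_eq hp Nat.prime_two).1 h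

omit hp in
theorem eq_two_or_three {p a b : ℕ} (hp : p.Prime) (h : p ∣ 2 ^ a * 3 ^ b) : p = 2 ∨ p = 3 := by
  rcases (Nat.Prime.dvd_mul hp).1 h with h | h
  · exact Or.inl ((Nat.prime_dvd_prime_iff_eq hp Nat.prime_two).1 (hp.dvd_of_dvd_pow h))
  · exact Or.inr ((Nat.prime_dvd_prime_iff_eq hp Nat.prime_three).1 (hp.dvd_of_dvd_pow h))

omit hp in
theorem FEl.exists_congr {S S' : Type*} [Group S] [Group S'] (e : S ≃* S') (h : ∃ x : S, FEl p x) :
    ∃ x : S', FEl p x := by
  obtain ⟨x, hx⟩ := h
  refine ⟨e x, ⟨⟨fun h => hx.ne (by rw [← e.map_one] at h; exact e.injective h), ?_⟩, ?_⟩⟩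
  · obtain ⟨q, k, h1, h2, h3⟩ := hx.ord
    exact ⟨q, k, h1, h2, by rw [← h3]; exact orderOf_injective e.toMonoidHom e.injective x⟩
  · have h1 : Nat.card (Subgroup.centralizer ({e x} : Set S')) = Nat.card (Subgroup.centralizer ({x} : Set S)) := by
      have h : Subgroup.centralizer ({e x} : Set S') = (Subgroup.centralizer ({x} : Set S)).map e.toMonoidHom := by
        ext y
        constructor
        · intro hy
          refine ⟨e.symm y, ?_, by simp⟩
          rw [SetLike.mem_coe, Subgroup.mem_centralizer_singleton_iff] at *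
          apply e.injective
          simpa using hy
        · rintro ⟨z, hz, rfl⟩
          rw [SetLike.mem_coe, Subgroup.mem_centralizer_singleton_iff] at hz
          rw [Subgroup.mem_centralizer_singleton_iff]
          change e z * e x = e x * e z
          rw [← map_mul, hz, map_mul]
      rw [h]
      exact Subgroup.card_map_of_injective e.injective
    rw [h1]
    exact hx.free

/-! ### Linear groups -/

theorem card_psl32 {F : Type*} [Field F] [Fintype F] (hF : Fintype.card F = 2) :
    Nat.card (Matrix.ProjectiveSpecialLinearGroup (Fin 3) F) = 168 := by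
  have h := S0243.result hF 3 (by norm_num)
  rw [Fin.prod_univ_three] at h
  norm_num at h
  omega

theorem card_psl34 {F : Type*} [Field F] [Fintype F] (hF : Fintype.card F = 4) :
    Nat.card (Matrix.ProjectiveSpecialLinearGroup (Fin 3) F) = 20160 := by
  have h := S0243.result hF 3 (by norm_num)
  rw [Fin.prod_univ_three] at h
  norm_num at h
  omega

theorem fel_psl3 {F : Type*} [Field F] [Fintype F] (hF : Fintype.card F = 2 ∨ Fintype.card F = 4) [CharP F 2] :
    ∃ x : Matrix.ProjectiveSpecialLinearGroup (Fin 3) F, FEl 2 x := by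
  have h2 : Fact (Nat.Prime 2) := ⟨Nat.prime_two⟩
  refine fel_of_no_order (q := 7) (by norm_num) (by norm_num) ?_ ?_
  · rcases hF with h | h
    · rw [card_psl32 h]; norm_num
    · rw [card_psl34 h]; norm_num
  · intro g hg
    have h1 : orderOf g ∈ Set.range (orderOf : Matrix.ProjectiveSpecialLinearGroup (Fin 3) F → ℕ) := ⟨g, rfl⟩
    rw [S2476.result (F := F) 2, hg] at h1
    rcases hF with h | h <;> rw [h] at h1 <;> revert h1 <;> decide

theorem good_psl {F : Type} [Field F] [Fintype F] {r : ℕ} [CharP F r] (hr : r.Prime) (n : ℕ) (hn : 2 ≤ n)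
    (h2 : n = 2 → 4 ≤ Fintype.card F)
    (reg : r ≠ p → ∃ x : Matrix.ProjectiveSpecialLinearGroup (Fin n) F, FEl p x) :
    Good.{u} p (Matrix.ProjectiveSpecialLinearGroup (Fin n) F) := by
  by_cases hexc : (n, Fintype.card F) ∈ ({(2, 4), (2, 9), (3, 2), (3, 4), (4, 2)} : Set (ℕ × ℕ))
  · simp only [Set.mem_insert_iff, Set.mem_singleton_iff, Prod.mk.injEq] at hexc
    rcases hexc with ⟨rfl, hq⟩ | ⟨rfl, hq⟩ | ⟨rfl, hq⟩ | ⟨rfl, hq⟩ | ⟨rfl, hq⟩
    · obtain ⟨e⟩ := S0252.result hq
      exact Good.congr e.symm (good_alternating p 5 le_rfl)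
    · obtain ⟨e⟩ := S0254.result hq
      exact Good.congr e.symm (good_alternating p 6 (by norm_num))
    · refine good_of_cyclic two_ne_zero (S2087.result hq) fun h => ?_
      obtain rfl := dvd_two_mul hp.out h
      obtain rfl := char_eq_of_card (k := 1) hr Nat.prime_two (by rw [hq, pow_one])
      exact fel_psl3 (Or.inl hq)
    · refine good_of_mult_fel (N := 48) (S2088.result hq) (by simp [Nat.card_zmod]) (by norm_num) fun h => ?_
      obtain rfl := char_eq_of_card (k := 2) hr Nat.prime_two (by rw [hq]; norm_num)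
      rw [card_psl34 hq]
      rcases eq_two_or_three (a := 4) (b := 1) hp.out h with rfl | rfl
      · exact ⟨fel_psl3 (Or.inr hq), 6, by norm_num, by norm_num⟩
      · exact ⟨reg (by norm_num), 2, by norm_num, by norm_num⟩
    · obtain ⟨e⟩ := S0256.result hq
      exact Good.congr e.symm (good_alternating p 8 (by norm_num))
  · refine good_of_cyclic (n := Nat.gcd n (Fintype.card F - 1)) ?_ (S2086.result rfl n hn h2 hexc) fun h => reg ?_
    · exact (Nat.gcd_pos_of_pos_left _ (by omega)).ne'
    · exact ne_of_dvd_sub_one hr dvd_card_of_charP Fintype.card_pos (h.trans (Nat.gcd_dvd_right _ _))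

/-! ### Unitary groups -/

theorem card_psu42 {F : Type*} [Field F] [Fintype F] (hF : Fintype.card F = 2 ^ 2) :
    Nat.card (Cfsg.PSU 4 F 2) = 25920 := by
  have h := S0280.result hF 4 (by norm_num)
  norm_num [Finset.prod_range_succ] at h
  omega

theorem card_psu43 {F : Type*} [Field F] [Fintype F] (hF : Fintype.card F = 3 ^ 2) :
    Nat.card (Cfsg.PSU 4 F 3) = 3265920 := by
  have h := S0280.result hF 4 (by norm_num)
  norm_num [Finset.prod_range_succ] at h
  omega

theorem card_psu62 {F : Type*} [Field F] [Fintype F] (hF : Fintype.card F = 2 ^ 2) :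
    Nat.card (Cfsg.PSU 6 F 2) = 9196830720 := by
  have h := S0280.result hF 6 (by norm_num)
  norm_num [Finset.prod_range_succ] at h
  omega

theorem card_su22 {F : Type*} [Field F] [Fintype F] (hF : Fintype.card F = 2 ^ 2) :
    Nat.card (Cfsg.SU 2 F 2) = 6 := by
  have h := S0278.result hF 2 (by norm_num)
  norm_num [Finset.prod_range_succ] at h
  omega

theorem card_su23 {F : Type*} [Field F] [Fintype F] (hF : Fintype.card F = 3 ^ 2) :
    Nat.card (Cfsg.SU 2 F 3) = 24 := by
  have h := S0278.result hF 2 (by norm_num)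
  norm_num [Finset.prod_range_succ] at h
  omega

theorem card_su42 {F : Type*} [Field F] [Fintype F] (hF : Fintype.card F = 2 ^ 2) :
    Nat.card (Cfsg.SU 4 F 2) = 25920 := by
  have h := S0278.result hF 4 (by norm_num)
  norm_num [Finset.prod_range_succ] at h
  omega

theorem fel_psu {F : Type*} [Field F] [Fintype F] {r : ℕ} [Fact r.Prime] [CharP F r] {m q : ℕ} (hm : 4 ≤ m)
    (hF : Fintype.card F = q ^ 2) {l : ℕ} (hl : l.Prime) (hlr : l ≠ r) (hd : l ∣ Nat.card (Cfsg.PSU m F q))
    (hnd : ¬ l ∣ Nat.card (Cfsg.SU (m - 2) F q)) : ∃ x : Cfsg.PSU m F q, FEl r x := by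
  refine fel_of_not_comm hl hlr hd fun x g hx hg hc => hnd ?_
  have h1 := S2365.result r m q hm hF g x hg (show Commute g x from hc.symm)
  have h2 : l ∈ (orderOf x).primeFactors := by
    rw [hx, hl.primeFactors]
    exact Finset.mem_singleton_self l
  exact Nat.dvd_of_mem_primeFactors (h1 h2)

theorem good_psu {F : Type} [Field F] [Fintype F] {r : ℕ} [CharP F r] (hr : r.Prime) (n q : ℕ)
    (hF : Fintype.card F = q ^ 2) (hn : 3 ≤ n) (h32 : ¬ (n = 3 ∧ q = 2))
    (reg : r ≠ p → ∃ x : Cfsg.PSU n F q, FEl p x) : Good.{u} p (Cfsg.PSU n F q) := by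
  have hrF : Fact r.Prime := ⟨hr⟩
  by_cases hexc : (n, q) ∈ ({(4, 2), (4, 3), (6, 2)} : Set (ℕ × ℕ))
  · simp only [Set.mem_insert_iff, Set.mem_singleton_iff, Prod.mk.injEq] at hexc
    rcases hexc with ⟨rfl, rfl⟩ | ⟨rfl, rfl⟩ | ⟨rfl, rfl⟩
    · obtain rfl := char_eq_of_card hr Nat.prime_two hF
      have hK : Fintype.card (ZMod 3) = 3 := ZMod.card 3
      obtain ⟨e⟩ := S0822.result (F := F) (K := ZMod 3) (by rw [hF]; norm_num) hK
      refine Good.congr e.symm ?_
      have h1 := S2092.result hK 2 le_rfl (fun _ => le_rfl) (by omega)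
      have h2 : Nat.gcd 2 (3 - 1) = 2 := rfl
      rw [h2] at h1
      refine good_of_cyclic two_ne_zero h1 fun h => ?_
      obtain rfl := dvd_two_mul hp.out h
      refine FEl.exists_congr e (fel_psu (l := 5) (by norm_num) hF (by norm_num) (by norm_num) ?_ ?_)
      · rw [card_psu42 hF]; norm_num
      · rw [card_su22 hF]; norm_num
    · obtain rfl := char_eq_of_card hr Nat.prime_three hF
      refine good_of_mult_fel (N := 36) (S2090.result (by rw [hF]; norm_num)) (by simp [Nat.card_zmod])
        (by norm_num) fun h => ?_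
      rw [card_psu43 hF]
      rcases eq_two_or_three (a := 2) (b := 2) hp.out h with rfl | rfl
      · exact ⟨reg (by norm_num), 3, by norm_num, by norm_num⟩
      · refine ⟨fel_psu (l := 7) (by norm_num) hF (by norm_num) (by norm_num) ?_ ?_, 3, by norm_num, by norm_num⟩
        · rw [card_psu43 hF]; norm_num
        · rw [card_su23 hF]; norm_num
    · obtain rfl := char_eq_of_card hr Nat.prime_two hF
      refine good_of_mult_fel (N := 12) (S2091.result (by rw [hF]; norm_num)) (by simp [Nat.card_zmod])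
        (by norm_num) fun h => ?_
      rw [card_psu62 hF]
      rcases eq_two_or_three (a := 2) (b := 1) hp.out h with rfl | rfl
      · refine ⟨fel_psu (l := 7) (by norm_num) hF (by norm_num) (by norm_num) ?_ ?_, 3, by norm_num, by norm_num⟩
        · rw [card_psu62 hF]; norm_num
        · rw [card_su42 hF]; norm_num
      · exact ⟨reg (by norm_num), 2, by norm_num, by norm_num⟩
  · have hrq : r ∣ q := hr.dvd_of_dvd_pow (hF ▸ dvd_card_of_charP (F := F) (r := r))
    refine good_of_cyclic (n := Nat.gcd n (q + 1)) ?_ (S2089.result n q hF hn h32 hexc) fun h => reg ?_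
    · exact (Nat.gcd_pos_of_pos_left _ (by omega)).ne'
    · exact ne_of_dvd_add_one hr hrq (h.trans (Nat.gcd_dvd_right _ _))

/-! ### Symplectic groups -/

omit hp in
theorem seven_dvd_psp {F : Type} [Field F] [Fintype F] (hF : Fintype.card F = 2 ∨ Fintype.card F = 3) :
    7 ∣ Nat.card (Cfsg.PSp 3 F) := by
  have h := OddHalf.D6.QThree.Pump.card_psp F 3 (by norm_num)
  rcases hF with hF | hF
  · rw [hF] at h
    norm_num [Finset.prod_range_succ] at h
    omega
  · rw [hF] at h
    norm_num [Finset.prod_range_succ] at h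
    omega

omit hp in
theorem no_order_psp {F : Type} [Field F] [Fintype F] {r : ℕ} [Fact r.Prime] [CharP F r]
    (hF : Fintype.card F = 2 ∨ Fintype.card F = 3) :
    7 * r ∉ Set.range (orderOf : Cfsg.PSp 3 F → ℕ) := by
  have hr : r.Prime := Fact.out
  rcases hF with hF | hF
  · have hr2 := char_eq_of_card (k := 1) hr Nat.prime_two (by rw [hF, pow_one])
    have ho : orderOf ((Fintype.card F : ℕ) : ZMod 7) = 3 := by
      rw [hF]
      exact @orderOf_eq_prime _ _ _ 3 ⟨Nat.prime_three⟩ (by decide) (by decide)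
    exact (S2472.result r 3 (by norm_num) (by norm_num) 7 (by norm_num) (by norm_num) (by omega)
      (seven_dvd_psp (Or.inl hF)) 3 3 ho.symm (Or.inl ⟨by decide, rfl⟩)).2 (by norm_num)
  · have hr3 := char_eq_of_card (k := 1) hr Nat.prime_three (by rw [hF, pow_one])
    have ho : orderOf ((Fintype.card F : ℕ) : ZMod 7) = 6 := by
      rw [hF]
      have h1 : orderOf ((3 : ℕ) : ZMod 7) ∣ 6 := orderOf_dvd_of_pow_eq_one (by decide)
      have h2 : ((3 : ℕ) : ZMod 7) ^ 2 ≠ 1 := by decide
      have h3 : ((3 : ℕ) : ZMod 7) ^ 3 ≠ 1 := by decide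
      have h4 : orderOf ((3 : ℕ) : ZMod 7) ∈ Nat.divisors 6 := by
        rw [Nat.mem_divisors]; exact ⟨h1, by norm_num⟩
      have h5 : Nat.divisors 6 = {1, 2, 3, 6} := by decide
      rw [h5] at h4
      simp only [Finset.mem_insert, Finset.mem_singleton] at h4
      rcases h4 with h4 | h4 | h4 | h4
      · exact absurd (orderOf_dvd_iff_pow_eq_one.1 (by rw [h4]; norm_num)) h2
      · exact absurd (orderOf_dvd_iff_pow_eq_one.1 (by rw [h4])) h2
      · exact absurd (orderOf_dvd_iff_pow_eq_one.1 (by rw [h4])) h3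
      · exact h4
    exact (S2472.result r 3 (by norm_num) (by norm_num) 7 (by norm_num) (by norm_num) (by omega)
      (seven_dvd_psp (Or.inr hF)) 6 3 ho.symm (Or.inr ⟨by decide, rfl⟩)).2 (by norm_num)

theorem good_psp {F : Type} [Field F] [Fintype F] {r : ℕ} [CharP F r] (hr : r.Prime) (m : ℕ) (hm : 2 ≤ m)
    (h2 : m = 2 → 3 ≤ Fintype.card F)
    (reg : r ≠ p → ∃ x : Cfsg.PSp m F, FEl p x) : Good.{u} p (Cfsg.PSp m F) := by
  by_cases hexc : m = 3 ∧ Fintype.card F = 2
  · obtain ⟨rfl, hq⟩ := hexc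
    refine good_of_cyclic two_ne_zero (S2093.result hq) fun h => ?_
    obtain rfl := dvd_two_mul hp.out h
    obtain rfl := char_eq_of_card (k := 1) hr Nat.prime_two (by rw [hq, pow_one])
    exact fel_of_no_order (q := 7) (by norm_num) (by norm_num) (seven_dvd_psp (Or.inl hq))
      fun g hg => no_order_psp (r := 2) (Or.inl hq) ⟨g, hg⟩
  · refine good_of_cyclic (n := Nat.gcd 2 (Fintype.card F - 1)) ?_ (S2092.result rfl m hm h2 hexc) fun h => reg ?_
    · exact (Nat.gcd_pos_of_pos_left _ (by omega)).ne'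
    · exact ne_of_dvd_sub_one hr dvd_card_of_charP Fintype.card_pos (h.trans (Nat.gcd_dvd_right _ _))

/-! ### Orthogonal groups -/

theorem good_omOdd {F : Type} [Field F] [Fintype F] {r : ℕ} [CharP F r] (hr : r.Prime) (m : ℕ) (hm : 3 ≤ m)
    (ho : Odd (Fintype.card F)) (reg : r ≠ p → ∃ x : Cfsg.POmega F (Cfsg.quadFormOdd m F), FEl p x) :
    Good.{u} p (Cfsg.POmega F (Cfsg.quadFormOdd m F)) := by
  have hr2 : r ≠ 2 := by
    rintro rfl
    have h1 : 2 ∣ Fintype.card F := dvd_card_of_charP
    rw [← even_iff_two_dvd] at h1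
    exact (Nat.not_odd_iff_even.2 h1) ho
  by_cases hexc : m = 3 ∧ Fintype.card F = 3
  · obtain ⟨rfl, hq⟩ := hexc
    obtain rfl := char_eq_of_card (k := 1) hr Nat.prime_three (by rw [hq, pow_one])
    have h3 : Fact (Nat.Prime 3) := ⟨Nat.prime_three⟩
    refine good_of_cyclic (by norm_num) (S2095.result hq) fun h => ?_
    rcases eq_two_or_three (a := 1) (b := 1) hp.out h with rfl | rfl
    · exact reg (by norm_num)
    · refine fel_of_no_order (q := 7) (by norm_num) (by norm_num) ?_ ?_
      · have h := S0292.result hq (by decide) 3 le_rfl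
        norm_num [Finset.prod_range_succ] at h
        omega
      · intro g hg
        exact no_order_psp (r := 3) (Or.inr hq)
          ((S2474.result ho 3 le_rfl 7 3 (by norm_num) (by norm_num) (by norm_num)).1 ⟨g, hg⟩)
  · refine good_of_cyclic two_ne_zero (S2094.result rfl ho m hm hexc) fun h => reg ?_
    rw [dvd_two_mul hp.out h]
    exact hr2

theorem good_omPlus {F : Type} [Field F] [Fintype F] {r : ℕ} [CharP F r] (hr : r.Prime) (m : ℕ) (hm : 4 ≤ m)
    (reg : r ≠ p → ∃ x : Cfsg.POmega F (Cfsg.quadFormPlus m F), FEl p x) :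
    Good.{u} p (Cfsg.POmega F (Cfsg.quadFormPlus m F)) := by
  have hcard := S0293.result (F := F) rfl m hm
  rcases Nat.even_or_odd m with he | ho
  · by_cases hexc : m = 4 ∧ Fintype.card F = 2
    · obtain ⟨rfl, hq⟩ := hexc
      have hc : Nat.card (Cfsg.POmega F (Cfsg.quadFormPlus 4 F)) = 174182400 := by
        rw [hq] at hcard
        norm_num [Finset.prod_range_succ] at hcard
        omega
      refine good_of_mult_v (N := 4) (S2098.result hq) (by simp [Nat.card_zmod]) (by norm_num) fun h => ?_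
      obtain rfl := dvd_two_mul hp.out (hp.out.dvd_of_dvd_pow (n := 2) (by simpa using h))
      refine ⟨3, by norm_num, le_v_of_charTwo (j := 2) (q := 5)
        (OddHalf.Small.Orth.charTwo_POmegaPlus hq (by norm_num)) (by norm_num) (by norm_num) ?_ (by norm_num) ?_⟩
      · rw [hc]; norm_num
      · rw [hc]; norm_num
    · set g := Nat.gcd 2 (Fintype.card F ^ m - 1) with hg
      have hg0 : g ≠ 0 := (Nat.gcd_pos_of_pos_left _ (by omega)).ne'
      refine good_of_mult_fel (N := g * g) (S2097.result rfl m hm he hexc) ?_ (mul_ne_zero hg0 hg0) fun h => ?_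
      · rw [Nat.card_congr Multiplicative.toAdd, Nat.card_prod, Nat.card_zmod, ← hg]
      · have h1 : p ∣ g := by
          rcases (Nat.Prime.dvd_mul hp.out).1 h with h | h <;> exact h
        have h2 : p = 2 := dvd_two_mul hp.out (h1.trans (Nat.gcd_dvd_left _ _))
        have h3 : p ∣ Fintype.card F ^ m - 1 := h1.trans (Nat.gcd_dvd_right _ _)
        have h4 : r ≠ p := ne_of_dvd_sub_one hr (dvd_pow dvd_card_of_charP (by omega))
          (pow_pos Fintype.card_pos _) h3
        refine ⟨reg h4, 3, ?_, ?_⟩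
        · rw [h2]
          intro h5
          have h6 : g ∣ 2 := Nat.gcd_dvd_left _ _
          have h7 := Nat.le_of_dvd (by norm_num) h6
          have h8 := Nat.le_of_dvd (Nat.pos_of_ne_zero (mul_ne_zero hg0 hg0)) h5
          nlinarith
        · rw [h2]
          have hodd : Odd (Fintype.card F) := by
            rw [← Nat.not_even_iff_odd, even_iff_two_dvd]
            intro h5
            have h6 : 2 ∣ Fintype.card F ^ m := dvd_pow h5 (by omega)
            exact ne_of_dvd_sub_one Nat.prime_two h6 (pow_pos Fintype.card_pos _) (h2 ▸ h3) rfl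
          have h8 : ∀ i : ℕ, 8 ∣ Fintype.card F ^ (2 * (i + 1)) - 1 := by
            intro i
            rw [pow_mul']
            exact Nat.eight_dvd_sq_sub_one_of_odd (hodd.pow)
          have h9 : 8 ^ 2 ∣ ∏ i ∈ Finset.range (m - 1), (Fintype.card F ^ (2 * (i + 1)) - 1) := by
            obtain ⟨k, hk⟩ : ∃ k, m - 1 = k + 2 := ⟨m - 3, by omega⟩
            rw [hk, Finset.prod_range_succ, Finset.prod_range_succ, mul_assoc, pow_two]
            exact Dvd.dvd.mul_left (mul_dvd_mul (h8 _) (h8 _)) _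
          have h10 : 64 ∣ Nat.gcd 4 (Fintype.card F ^ m - 1) * Nat.card (Cfsg.POmega F (Cfsg.quadFormPlus m F)) := by
            rw [hcard]
            exact Dvd.dvd.mul_left h9 _
          have h11 : 64 ∣ 4 * Nat.card (Cfsg.POmega F (Cfsg.quadFormPlus m F)) :=
            h10.trans (mul_dvd_mul_right (Nat.gcd_dvd_left _ _) _)
          have h12 : 4 * 16 ∣ 4 * Nat.card (Cfsg.POmega F (Cfsg.quadFormPlus m F)) := h11
          have h13 := Nat.dvd_of_mul_dvd_mul_left (by norm_num) h12
          exact Dvd.dvd.trans (by norm_num) h13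
  · refine good_of_cyclic (n := Nat.gcd 4 (Fintype.card F ^ m - 1)) ?_
      (S2096.result rfl m (by rcases ho with ⟨k, hk⟩; omega) ho) fun h => reg ?_
    · exact (Nat.gcd_pos_of_pos_left _ (by omega)).ne'
    · exact ne_of_dvd_sub_one hr (dvd_pow dvd_card_of_charP (by omega)) (pow_pos Fintype.card_pos _)
        (h.trans (Nat.gcd_dvd_right _ _))

theorem good_omMinus {F : Type} [Field F] [Fintype F] {r : ℕ} [CharP F r] (hr : r.Prime) (m : ℕ) (hm : 4 ≤ m)
    (a b : F) (hab : ∀ z₁ z₂ : F, z₁ ^ 2 + a * z₁ * z₂ + b * z₂ ^ 2 = 0 → z₁ = 0 ∧ z₂ = 0)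
    (reg : r ≠ p → ∃ x : Cfsg.POmega F (Cfsg.quadFormMinus (m - 1) F a b), FEl p x) :
    Good.{u} p (Cfsg.POmega F (Cfsg.quadFormMinus (m - 1) F a b)) := by
  refine good_of_cyclic (n := Nat.gcd 4 (Fintype.card F ^ m + 1)) ?_
    (S2099.result rfl m hm a b hab) fun h => reg ?_
  · exact (Nat.gcd_pos_of_pos_left _ (by omega)).ne'
  · exact ne_of_dvd_add_one hr (dvd_pow dvd_card_of_charP (by omega)) (h.trans (Nat.gcd_dvd_right _ _))

end Cfsg.Agent.H576.Prim
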