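import Cfsg.Agent.H576.PrimQuot
import Cfsg.Agent.Lib.GoldschmidtFusion
import Cfsg.Agent.Lib.MinNormal
import Cfsg.Agent.ClassicalGeometry.SympAutSemi
import Cfsg.Agent.S3952

/-!
# Criteria excluding quasisimple configurations

* `good_of_card`: some element of prime power order (prime to `p`) of `S` has class size whose
  `p`-part is larger than the kernels of the stem extensions of `S`;
* `good_of_mult`, `good_of_cyclic`: the same with the Schur multiplier;
* `good_of_out`: an element `x` with `p ∤ |C_S(x)|` and an element of order `p ^ (f + 1)`, `p ^ f` the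
  `p`-part of `|Out(S)|`.
-/

set_option autoImplicit false
open Cfsg

namespace Cfsg.Agent.H576.Prim

open Cfsg.Agent.SignalizersComponents

universe u w

variable {p : ℕ} [hp : Fact p.Prime] {M : Type u} [Group M] [Finite M] {L : Subgroup M} {S : Type w}
  [Group S] {π : L →* S} {a : ℕ}

omit hp [Finite M] in
theorem center_eq_inf_centralizer (L : Subgroup M) :
    (Subgroup.center L).map L.subtype = L ⊓ Subgroup.centralizer (L : Set M) :=
  LayerCenter.map_center_eq L

omit hp [Finite M] in
theorem not_mem_centralizer_iff {L : Subgroup M} (x : L) :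
    (x : M) ∈ Subgroup.centralizer (L : Set M) ↔ x ∈ Subgroup.center L := by
  rw [Subgroup.mem_center_iff, Subgroup.mem_centralizer_iff]
  constructor
  · intro h y
    exact Subtype.ext (h y y.2)
  · intro h y hy
    exact congrArg Subtype.val (h ⟨y, hy⟩)

theorem Conf.dvd_card (h : Conf p L π a) : p ∣ Nat.card L := by
  obtain ⟨n, hn⟩ := (IsPGroup.iff_card).1 h.kp
  have h1 : n ≠ 0 := by
    rintro rfl
    rw [pow_zero, Subgroup.card_eq_one] at hn
    exact h.kne hn
  have h2 : p ∣ Nat.card (Subgroup.center L) := by rw [hn]; exact dvd_pow_self p h1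
  exact h2.trans (Subgroup.card_subgroup_dvd_card _)

/-- `p^a ≤ |Z(L)|`. -/
theorem Conf.pow_le (h : Conf p L π a) : p ^ a ≤ Nat.card (Subgroup.center L) := by
  have hLn := h.normal
  obtain ⟨P⟩ : Nonempty (Sylow p M) := inferInstance
  have hP : ¬ (P : Subgroup M) ⊓ L ≤ Subgroup.centralizer (L : Set M) := by
    intro hcon
    obtain ⟨T⟩ : Nonempty (Sylow p L) := inferInstance
    apply CompBasic.sylow_not_le_center_of_perfect h.perf p h.dvd_card T
    intro t ht
    obtain ⟨k, hk⟩ := (IsPGroup.iff_orderOf.1 T.isPGroup') ⟨t, ht⟩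
    rw [← Subgroup.orderOf_coe, ← Subgroup.orderOf_coe] at hk
    obtain ⟨g, hg⟩ := Sizes.exists_conj_mem p P (t : M) ⟨k, hk⟩
    have hCn : (Subgroup.centralizer (L : Set M)).Normal := inferInstance
    have h1 : g * (t : M) * g⁻¹ ∈ Subgroup.centralizer (L : Set M) :=
      hcon ⟨hg, hLn.conj_mem _ t.2 g⟩
    have h2 := hCn.conj_mem _ h1 g⁻¹
    have h3 : g⁻¹ * (g * (t : M) * g⁻¹) * g⁻¹⁻¹ = t := by group
    rw [h3] at h2
    exact (not_mem_centralizer_iff t).1 h2
  obtain ⟨y, hyP, hyc, hyZ⟩ := Sizes.exists_small L p P hP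
  obtain ⟨j, hj⟩ := (IsPGroup.iff_orderOf.1 P.isPGroup') ⟨y, hyP.1⟩
  rw [← Subgroup.orderOf_coe] at hj
  have hv : v p y = a := h.cfg.pel y hyP.2 hyc ⟨j, hj⟩
  have h1 : p ^ a ∣ (Subgroup.centralizer ({y} : Set M)).index := by
    rw [hp.out.pow_dvd_iff_le_factorization Subgroup.index_ne_zero_of_finite]
    exact hv.ge
  have h2 := Sizes.pow_dvd_relIndex p P y a h1
  have h3 := Sizes.relIndex_le (P : Subgroup M) _ y hyZ
  have h4 : 0 < (Subgroup.centralizer ({y} : Set M)).relIndex (P : Subgroup M) :=
    Nat.pos_of_ne_zero (Subgroup.index_ne_zero_of_finite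
      (H := (Subgroup.centralizer ({y} : Set M)).subgroupOf (P : Subgroup M)))
  refine (Nat.le_of_dvd h4 h2).trans (h3.trans ?_)
  rw [← Subgroup.card_map_of_injective L.subtype_injective, center_eq_inf_centralizer]
  exact Nat.le_of_dvd Nat.card_pos (Subgroup.card_dvd_of_le (by
    rw [inf_assoc]; exact inf_le_right))

/-- Lifting of elements of order prime to `p`. -/
theorem Conf.exists_lift (h : Conf p L π a) {x : S} {q k : ℕ} (hq : q.Prime) (hqp : q ≠ p)
    (hx1 : x ≠ 1) (hxo : orderOf x = q ^ k) :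
    ∃ x' : L, π x' = x ∧ (∃ j, orderOf (x' : M) = q ^ j) ∧ (x' : M) ∉ Subgroup.centralizer (L : Set M) ∧
      (Subgroup.centralizer ({x} : Set S)).comap π =
        (Subgroup.centralizer ({(x' : M)} : Set M)).subgroupOf L := by
  obtain ⟨x₀, hx₀⟩ := h.surj x
  -- the `q`-part
  obtain ⟨j, m, hm, hjm⟩ := Nat.exists_eq_pow_mul_and_not_dvd (orderOf_pos x₀).ne' q hq.ne_one
  have hcop : (m).Coprime (q ^ k) :=
    Nat.Coprime.pow_right k ((Nat.Prime.coprime_iff_not_dvd hq).2 hm).symm
  obtain ⟨s, hs1, hs2⟩ := Nat.chineseRemainder hcop 0 1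
  obtain ⟨u, rfl⟩ : m ∣ s := (Nat.modEq_zero_iff_dvd).1 hs1
  have hπx : π (x₀ ^ (m * u)) = x := by
    rw [map_pow, hx₀]
    conv_rhs => rw [← pow_one x]
    rw [pow_eq_pow_iff_modEq, hxo]
    exact hs2
  have hord : orderOf (x₀ ^ (m * u)) ∣ q ^ j := by
    rw [orderOf_dvd_iff_pow_eq_one, ← pow_mul]
    have : m * u * q ^ j = orderOf x₀ * u := by rw [hjm]; ring
    rw [this, pow_mul, pow_orderOf_eq_one, one_pow]
  set x' : L := x₀ ^ (m * u) with hx'
  refine ⟨x', hπx, ?_, ?_, ?_⟩
  · obtain ⟨i, -, hi⟩ := (Nat.dvd_prime_pow hq).1 hord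
    exact ⟨i, by rw [Subgroup.orderOf_coe, hi]⟩
  · rw [not_mem_centralizer_iff, ← h.ker, MonoidHom.mem_ker, hπx]
    exact hx1
  · ext g
    rw [Subgroup.mem_comap, Subgroup.mem_centralizer_singleton_iff, Subgroup.mem_subgroupOf,
      Subgroup.mem_centralizer_singleton_iff]
    constructor
    · intro hg
      have h1 : g * x' * g⁻¹ * x'⁻¹ ∈ Subgroup.center L := by
        rw [← h.ker, MonoidHom.mem_ker, map_mul, map_mul, map_mul, map_inv, map_inv, hπx, hg,
          mul_inv_cancel_right, mul_inv_cancel]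
      set z := g * x' * g⁻¹ * x'⁻¹ with hz
      have h2 : g * x' * g⁻¹ = z * x' := by rw [hz]; group
      have h3 : Commute z x' := ((Subgroup.mem_center_iff.1 h1) x').symm
      have h4 : z ^ (q ^ j) = 1 := by
        have h5 : (g * x' * g⁻¹) ^ (q ^ j) = 1 := by
          rw [conj_pow, orderOf_dvd_iff_pow_eq_one.1 hord, mul_one, mul_inv_cancel]
        rw [h2, h3.mul_pow, orderOf_dvd_iff_pow_eq_one.1 hord, mul_one] at h5
        exact h5
      obtain ⟨i, hi⟩ := (IsPGroup.iff_orderOf.1 h.kp) ⟨z, h1⟩
      rw [← Subgroup.orderOf_coe] at hi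
      have h6 : orderOf z = 1 := by
        refine Nat.eq_one_of_dvd_coprimes (a := p ^ i) (b := q ^ j) ?_ ?_ ?_
        · exact Nat.Coprime.pow _ _ ((Nat.coprime_primes hp.out hq).2 hqp.symm)
        · rw [← hi]
        · exact orderOf_dvd_of_pow_eq_one h4
      rw [orderOf_eq_one_iff] at h6
      rw [h6, one_mul, mul_inv_eq_iff_eq_mul] at h2
      exact congrArg Subtype.val h2
    · intro hg
      have h1 : g * x' = x' * g := Subtype.ext hg
      rw [← hπx, ← map_mul, ← map_mul, h1]

/-- The exponent of `p` in the class size of a `q`-element of `S` is at most `a`. -/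
theorem Conf.v_le (h : Conf p L π a) [Finite S] {x : S} {q k : ℕ} (hq : q.Prime) (hqp : q ≠ p)
    (hx1 : x ≠ 1) (hxo : orderOf x = q ^ k) : v p x ≤ a := by
  obtain ⟨x', hx', ⟨j, hj⟩, hxc, hcomap⟩ := h.exists_lift hq hqp hx1 hxo
  have h1 := h.cfg.qel x' x'.2 hxc ⟨q, j, hq, hqp, hj⟩
  refine le_trans ?_ h1
  have hLn := h.normal
  have h2 : (Subgroup.centralizer ({x} : Set S)).index =
      (Subgroup.centralizer ({(x' : M)} : Set M)).relIndex L := by
    rw [← Subgroup.index_comap_of_surjective _ h.surj, hcomap]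
    rfl
  have h3 := Cfsg.Agent.Lib.GoldschmidtFusion.relIndex_dvd_index_of_normal_right
    (Subgroup.centralizer ({(x' : M)} : Set M)) L
  rw [← h2] at h3
  exact (Nat.factorization_le_iff_dvd Subgroup.index_ne_zero_of_finite
      Subgroup.index_ne_zero_of_finite).2 h3 p

/-- The data of an element of `S`. -/
structure QEl (p : ℕ) {S : Type w} [Group S] (x : S) : Prop where
  ne : x ≠ 1
  ord : ∃ q k : ℕ, q.Prime ∧ q ≠ p ∧ orderOf x = q ^ k

/-- A `q`-element whose centralizer has order prime to `p`. -/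
structure FEl (p : ℕ) {S : Type w} [Group S] (x : S) : Prop extends QEl p x where
  free : ¬ p ∣ Nat.card (Subgroup.centralizer ({x} : Set S))

omit hp in
theorem FEl.v_eq [Finite S] {x : S} (hx : FEl p x) : v p x = (Nat.card S).factorization p := by
  have h1 := v_add (p := p) x
  rw [Nat.factorization_eq_zero_of_not_dvd hx.free, add_zero] at h1
  exact h1

theorem good_of_card [Finite S] {x : S} (hx : QEl p x)
    (hmul : ∀ (M : Type u) [Group M] [Finite M] (L : Subgroup M) (π : L →* S), Function.Surjective π →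
      Group.IsPerfect L → π.ker = Subgroup.center L → IsPGroup p (Subgroup.center L) →
      Subgroup.center L ≠ ⊥ → Nat.card (Subgroup.center L) < p ^ (v p x)) : Good.{u} p S := by
  intro M _ _ L π a h
  obtain ⟨q, k, hq, hqp, hxo⟩ := hx.ord
  have h1 := h.v_le hq hqp hx.ne hxo
  have h2 := h.pow_le
  have h3 := hmul M L π h.surj h.perf h.ker h.kp h.kne
  have h4 := Nat.pow_le_pow_right hp.out.pos h1
  omega

/-- Kernels of stem extensions in an arbitrary universe. -/
theorem card_dvd_of_mult {S : Type} [Group S] {A : Type} [CommGroup A]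
    (hA : Cfsg.HasSchurMultiplier S A) {L : Type u} [Group L] [Finite L] (π : L →* S)
    (hπ : Cfsg.IsStemExtension π) : Nat.card π.ker ∣ Nat.card A := by
  obtain ⟨L', _, ⟨e⟩⟩ := Cfsg.Agent.Lib.MinNormal.exists_type_zero_model L
  have hL' : Finite L' := Finite.of_equiv L e.symm.toEquiv
  have hker : (π.comp e.toMonoidHom).ker.map e.toMonoidHom = π.ker := by
    ext x
    rw [Subgroup.mem_map]
    constructor
    · rintro ⟨y, hy, rfl⟩
      exact hy
    · intro hx
      refine ⟨e.symm x, ?_, e.apply_symm_apply x⟩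
      rw [MonoidHom.mem_ker]
      show π (e (e.symm x)) = 1
      rw [e.apply_symm_apply]
      exact hx
  have h1 : Cfsg.IsStemExtension (π.comp e.toMonoidHom) := by
    refine ⟨hπ.1.comp e.surjective, ?_, ?_⟩
    · intro y hy
      rw [Subgroup.mem_center_iff]
      intro g
      apply e.injective
      rw [map_mul, map_mul]
      exact Subgroup.mem_center_iff.1 (hπ.2.1 hy) (e g)
    · intro y hy
      have h2 : e y ∈ commutator L := hπ.2.2 hy
      have h3 : (commutator L').map e.toMonoidHom = commutator L := by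
        rw [commutator_def, commutator_def, Subgroup.map_commutator, ← MonoidHom.range_eq_map,
          MonoidHom.range_eq_top_of_surjective _ e.surjective]
      rw [← h3] at h2
      obtain ⟨y', hy', he⟩ := h2
      rw [← e.injective he]
      exact hy'
  obtain ⟨f, hf⟩ := hA.2 L' (π.comp e.toMonoidHom) h1
  have h2 : Nat.card (π.comp e.toMonoidHom).ker ∣ Nat.card A := Subgroup.card_dvd_of_surjective f hf
  rw [← hker, Subgroup.card_map_of_injective e.injective]
  exact h2

theorem isStem_of_perfect {L : Type*} [Group L] (hL : Group.IsPerfect L) {S : Type*} [Group S]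
    {π : L →* S} (hs : Function.Surjective π) (hk : π.ker = Subgroup.center L) :
    Cfsg.IsStemExtension π :=
  ⟨hs, hk.le, by rw [hL.commutator_eq_top]; exact le_top⟩

/-- The criterion with the order of the Schur multiplier. -/
theorem good_of_mult {S : Type} [Group S] [Finite S] {A : Type} [CommGroup A]
    (hA : Cfsg.HasSchurMultiplier S A) (hA0 : Nat.card A ≠ 0)
    (h : p ∣ Nat.card A → ∃ x : S, QEl p x ∧ (Nat.card A).factorization p < v p x) : Good.{u} p S := by
  intro M _ _ L π a hc
  have hst := isStem_of_perfect hc.perf hc.surj hc.ker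
  have h1 := card_dvd_of_mult hA π hst
  rw [hc.ker] at h1
  obtain ⟨n, hn⟩ := (IsPGroup.iff_card).1 hc.kp
  have hn0 : n ≠ 0 := by
    rintro rfl
    rw [pow_zero, Subgroup.card_eq_one] at hn
    exact hc.kne hn
  rw [hn] at h1
  obtain ⟨x, hx, hvx⟩ := h ((dvd_pow_self p hn0).trans h1)
  have h2 : n ≤ (Nat.card A).factorization p := (hp.out.pow_dvd_iff_le_factorization hA0).1 h1
  obtain ⟨q, k, hq, hqp, hxo⟩ := hx.ord
  have h3 := hc.v_le hq hqp hx.ne hxo
  have h4 := hc.pow_le
  rw [hn] at h4
  have h5 := (Nat.pow_le_pow_iff_right hp.out.one_lt).1 h4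
  omega

/-- The criterion with a cyclic Schur multiplier. -/
theorem good_of_cyclic {S : Type} [Group S] [Finite S] {n : ℕ} (hn : n ≠ 0)
    (hA : Cfsg.HasCyclicSchurMultiplier S n) (h : p ∣ n → ∃ x : S, FEl p x) : Good.{u} p S := by
  have hc : Nat.card (Multiplicative (ZMod n)) = n := by
    rw [Nat.card_congr Multiplicative.toAdd, Nat.card_zmod]
  refine good_of_mult hA (by rw [hc]; exact hn) ?_
  rw [hc]
  intro hpn
  obtain ⟨x, hx⟩ := h hpn
  refine ⟨x, hx.toQEl, ?_⟩
  rw [hx.v_eq]
  have h1 := Cfsg.Agent.S3952.result hA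
  have h2 : Monoid.exponent (Multiplicative (ZMod n)) = n := by
    rw [Monoid.exponent_multiplicative, ZMod.exponent]
  rw [h2] at h1
  have h3 := (Nat.factorization_le_iff_dvd (pow_ne_zero 2 hn) (Nat.card_pos (α := S)).ne').2 h1 p
  rw [Nat.factorization_pow] at h3
  have h4 : 1 ≤ n.factorization p := (hp.out.dvd_iff_one_le_factorization hn).1 hpn
  simp only [Finsupp.smul_apply, smul_eq_mul] at h3
  omega

omit hp in
/-- The action of `M` on `S`. -/
theorem exists_action [L.Normal] (hs : Function.Surjective π) (hk : π.ker = Subgroup.center L) :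
    ∃ θ : M →* MulAut S, ∀ (m : M) (l : L), θ m (π l) = π (MulAut.conjNormal m l) := by
  let e : (L ⧸ Subgroup.center L) ≃* S :=
    (QuotientGroup.quotientMulEquivOfEq hk.symm).trans
      (QuotientGroup.quotientKerEquivOfSurjective π hs)
  have he : ∀ l : L, e (QuotientGroup.mk l) = π l := fun l => rfl
  let θ : M →* MulAut S := (MulAut.congr e).toMonoidHom.comp
    ((Cfsg.Agent.ClassicalGeometry.SympAutSemi.quotAut (G := L)).comp (MulAut.conjNormal (H := L)))
  refine ⟨θ, fun m l => ?_⟩
  have h1 : θ m (π l) = e (Cfsg.Agent.ClassicalGeometry.SympAutSemi.quotAut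
      (MulAut.conjNormal m) (e.symm (π l))) := rfl
  rw [h1, ← he l, e.symm_apply_apply, Cfsg.Agent.ClassicalGeometry.SympAutSemi.quotAut_mk, he]

omit hp [Finite M] in
/-- An element acting trivially on the perfect group `L` modulo its centre centralizes `L`. -/
theorem mem_centralizer_of_perfect (hL : Group.IsPerfect L) {m : M}
    (hm : ∀ l : L, ∃ z ∈ Subgroup.center L, m * (l : M) * m⁻¹ = (z : M) * l) :
    m ∈ Subgroup.centralizer (L : Set M) := by
  choose z hz hmz using hm
  let _inst : CommGroup (Subgroup.center L) :=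
    { (inferInstance : Group (Subgroup.center L)) with
      mul_comm := fun a b => Subtype.ext ((Subgroup.mem_center_iff.1 b.2 a)) }
  let f : L →* Subgroup.center L :=
    { toFun := fun l => ⟨z l, hz l⟩
      map_one' := by
        apply Subtype.ext
        apply Subtype.ext
        have h1 := hmz 1
        simpa using h1.symm
      map_mul' := by
        intro l l'
        apply Subtype.ext
        apply Subtype.ext
        have h1 := hmz (l * l')
        have h2 := hmz l
        have h3 := hmz l'
        have h4 : (z l' : M) * (l : M) = (l : M) * (z l' : M) :=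
          (congrArg Subtype.val (Subgroup.mem_center_iff.1 (hz l') l)).symm
        show (z (l * l') : M) = (z l : M) * (z l' : M)
        have h5 : m * ((l * l' : L) : M) * m⁻¹ = (m * (l : M) * m⁻¹) * (m * (l' : M) * m⁻¹) := by
          push_cast; group
        rw [h5, h2, h3] at h1
        push_cast at h1
        have h6 : (z l : M) * l * ((z l' : M) * l') = ((z l : M) * (z l' : M)) * ((l : M) * l') := by
          calc (z l : M) * l * ((z l' : M) * l') = (z l : M) * ((l : M) * (z l' : M)) * l' := by group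
            _ = (z l : M) * ((z l' : M) * (l : M)) * l' := by rw [h4]
            _ = _ := by group
        rw [h6] at h1
        exact (mul_right_cancel h1).symm }
  rw [Subgroup.mem_centralizer_iff]
  intro l hl
  have h1 := CompBasic.hom_eq_one_of_perfect hL f ⟨l, hl⟩
  have h2 : (z ⟨l, hl⟩ : M) = 1 := congrArg (fun w : Subgroup.center L => ((w : L) : M)) h1
  have h3 := hmz ⟨l, hl⟩
  rw [h2, one_mul, mul_inv_eq_iff_eq_mul] at h3
  exact h3.symm

/-- The criterion with the order of the outer automorphism group. -/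
theorem good_of_out [Finite S] {f : ℕ} {x : S} (hx : FEl p x)
    (hout : (MulAut.conj : S →* MulAut S).range.index.factorization p ≤ f)
    {s : S} (hs : orderOf s = p ^ (f + 1)) : Good.{u} p S := by
  intro M _ _ L π a h
  have hLn := h.normal
  obtain ⟨q, k, hq, hqp, hxo⟩ := hx.ord
  have ha := h.v_le hq hqp hx.ne hxo
  rw [hx.v_eq] at ha
  obtain ⟨θ, hθ⟩ := exists_action h.surj h.ker
  set C : Subgroup M := Subgroup.centralizer (L : Set M) with hC
  have hCn : C.Normal := inferInstance
  set I : Subgroup (MulAut S) := (MulAut.conj : S →* MulAut S).range with hI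
  have hIn : I.Normal := inferInstanceAs (Cfsg.Inn S).Normal
  -- `D = L C`
  have hD : I.comap θ ≤ L ⊔ C := by
    rintro m ⟨s, hs⟩
    obtain ⟨l, rfl⟩ := h.surj s
    have h1 : (l : M)⁻¹ * m ∈ C := by
      apply mem_centralizer_of_perfect h.perf
      intro y
      have h2 : θ ((l : M)⁻¹ * m) (π y) = π y := by
        rw [map_mul, MulAut.mul_apply, ← hs]
        show θ (l : M)⁻¹ (π l * π y * (π l)⁻¹) = π y
        rw [← map_inv, ← map_mul, ← map_mul, hθ]
        congr 1
        apply Subtype.ext
        rw [MulAut.conjNormal_apply]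
        push_cast
        group
      rw [hθ] at h2
      have h3 : MulAut.conjNormal ((l : M)⁻¹ * m) y * y⁻¹ ∈ Subgroup.center L := by
        rw [← h.ker, MonoidHom.mem_ker, map_mul, map_inv, h2, mul_inv_cancel]
      refine ⟨_, h3, ?_⟩
      rw [Subgroup.coe_mul, MulAut.conjNormal_apply, Subgroup.coe_inv, inv_mul_cancel_right]
    have h4 : m = (l : M) * ((l : M)⁻¹ * m) := by group
    rw [h4]
    exact Subgroup.mul_mem_sup l.2 h1
  have hidx : (L ⊔ C).index ∣ I.index := by
    refine (Subgroup.index_dvd_of_le hD).trans ?_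
    rw [Subgroup.index_comap]
    exact Subgroup.relIndex_dvd_index_of_normal I θ.range
  -- the order of `M`
  have hMcard : Nat.card M = Nat.card C * (Nat.card S * (L ⊔ C).index) := by
    have h1 := Subgroup.card_mul_index C
    have h2 : C.relIndex (L ⊔ C) * (L ⊔ C).index = C.index := Subgroup.relIndex_mul_index le_sup_right
    have h3 : C.relIndex (L ⊔ C) = Nat.card S := by
      rw [Subgroup.relIndex_sup_right]
      have h4 : C.subgroupOf L = π.ker := by
        ext y
        rw [Subgroup.mem_subgroupOf, hC, not_mem_centralizer_iff, h.ker]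
      rw [Subgroup.relIndex, h4, Subgroup.index_ker, MonoidHom.range_eq_top_of_surjective π h.surj,
        Subgroup.card_top]
    rw [← h1, ← h2, h3]
  -- the element `g`
  obtain ⟨g, hg⟩ := h.surj s
  have hgk : g ^ p ^ (f + 1) ∈ Subgroup.center L := by
    rw [← h.ker, MonoidHom.mem_ker, map_pow, hg, ← hs, pow_orderOf_eq_one]
  obtain ⟨j, hj⟩ := (IsPGroup.iff_orderOf.1 h.kp) ⟨_, hgk⟩
  rw [← Subgroup.orderOf_coe] at hj
  have hgp : orderOf g ∣ p ^ (f + 1 + j) := by
    rw [orderOf_dvd_iff_pow_eq_one, pow_add, pow_mul, ← hj, pow_orderOf_eq_one]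
  set y : L := g ^ p ^ f with hy
  have hyo : ∃ i, orderOf (y : M) = p ^ i := by
    rw [Subgroup.orderOf_coe]
    have h1 : orderOf y ∣ p ^ (f + 1 + j) := (orderOf_pow_dvd _).trans hgp
    obtain ⟨i, -, hi⟩ := (Nat.dvd_prime_pow hp.out).1 h1
    exact ⟨i, hi⟩
  have hyc : (y : M) ∉ Subgroup.centralizer (L : Set M) := by
    rw [not_mem_centralizer_iff, ← h.ker, MonoidHom.mem_ker, hy, map_pow, hg]
    intro h1
    have h2 := orderOf_dvd_of_pow_eq_one h1
    rw [hs] at h2
    have h3 := (Nat.pow_dvd_pow_iff_le_right hp.out.one_lt).1 h2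
    omega
  have hva : v p (y : M) = a := h.cfg.pel y y.2 hyc hyo
  have h5 : C ⊔ Subgroup.zpowers (g : M) ≤ Subgroup.centralizer ({(y : M)} : Set M) := by
    rw [sup_le_iff, Subgroup.zpowers_le]
    constructor
    · intro c hc
      rw [Subgroup.mem_centralizer_singleton_iff]
      exact (Subgroup.mem_centralizer_iff.1 hc y y.2).symm
    · rw [Subgroup.mem_centralizer_singleton_iff, hy]
      push_cast
      rw [← pow_succ, ← pow_succ']
  have h6 : C.relIndex (C ⊔ Subgroup.zpowers (g : M)) = p ^ (f + 1) := by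
    rw [sup_comm, Subgroup.relIndex_sup_right]
    let φ : Subgroup.zpowers (g : M) →* S := π.comp (Subgroup.inclusion (by
      rw [Subgroup.zpowers_le]; exact g.2))
    have h7 : C.subgroupOf (Subgroup.zpowers (g : M)) = φ.ker := by
      ext z
      have hzL : (z : M) ∈ L := (Subgroup.zpowers_le.2 g.2) z.2
      rw [Subgroup.mem_subgroupOf, hC, MonoidHom.mem_ker]
      show _ ↔ π ⟨z, hzL⟩ = 1
      rw [← MonoidHom.mem_ker, h.ker, ← not_mem_centralizer_iff]
    have h8 : φ.range = Subgroup.zpowers s := by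
      ext t
      constructor
      · rintro ⟨⟨_, n, rfl⟩, rfl⟩
        refine ⟨n, ?_⟩
        show s ^ n = π ⟨(g : M) ^ n, _⟩
        rw [← hg, ← map_zpow]
        rfl
      · rintro ⟨n, rfl⟩
        refine ⟨⟨(g : M) ^ n, n, rfl⟩, ?_⟩
        show π ⟨(g : M) ^ n, _⟩ = s ^ n
        rw [← hg, ← map_zpow]
        rfl
    rw [Subgroup.relIndex, h7, Subgroup.index_ker, h8, Nat.card_zpowers, hs]
  have h9 : Nat.card C * p ^ (f + 1) ∣ Nat.card (Subgroup.centralizer ({(y : M)} : Set M)) := by
    rw [← h6, card_mul_relIndex (le_sup_left : C ≤ C ⊔ Subgroup.zpowers (g : M))]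
    exact Subgroup.card_dvd_of_le h5
  -- comparison
  have h10 := v_add (p := p) (y : M)
  have h11 := (Nat.factorization_le_iff_dvd (mul_ne_zero Nat.card_pos.ne' (pow_ne_zero _ hp.out.ne_zero))
    Nat.card_pos.ne').2 h9 p
  rw [Nat.factorization_mul Nat.card_pos.ne' (pow_ne_zero _ hp.out.ne_zero), Finsupp.add_apply,
    hp.out.factorization_pow, Finsupp.single_eq_same] at h11
  have hne : (L ⊔ C).index ≠ 0 := Subgroup.index_ne_zero_of_finite
  have h12 : (Nat.card M).factorization p = (Nat.card C).factorization p +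
      ((Nat.card S).factorization p + (L ⊔ C).index.factorization p) := by
    rw [hMcard, Nat.factorization_mul Nat.card_pos.ne' (mul_ne_zero Nat.card_pos.ne' hne),
      Nat.factorization_mul Nat.card_pos.ne' hne]
    rfl
  have hMf : Finite (MulAut S) := inferInstance
  have h13 := (Nat.factorization_le_iff_dvd hne (Subgroup.index_ne_zero_of_finite (H := I))).2 hidx p
  have h14 : I.index.factorization p ≤ f := hout
  omega

end Cfsg.Agent.H576.Prim
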