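import Cfsg.Agent.H576.PrimMain
import Cfsg.Agent.H576.PrimGood
import Cfsg.Agent.H647.Four

/-!
# Existence of elements for the criteria of `PrimGood`

* `fel_of_not_comm`, `fel_of_no_order`: elements of prime order `q` commuting with no element of order `p`;
* `fel_of_regular`: an element of `r`-power order whose centralizer is an `r`-group;
* `fel_of_cyclic`: a self-centralizing cyclic subgroup of prime power order;
* `good_of_four`: a multiplier whose 2-part is at most 2.
-/

set_option autoImplicit false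
open Cfsg

namespace Cfsg.Agent.H576.Prim

open Cfsg.Agent.SignalizersComponents

universe u w

variable {p : ℕ} [hp : Fact p.Prime] {S : Type w} [Group S]

theorem free_of_not_comm [Finite S] {x : S} (h : ∀ g : S, orderOf g = p → g * x ≠ x * g) :
    ¬ p ∣ Nat.card (Subgroup.centralizer ({x} : Set S)) := by
  intro hd
  obtain ⟨t, ht⟩ := exists_prime_orderOf_dvd_card' p hd
  refine h (t : S) (by rw [Subgroup.orderOf_coe, ht]) ?_
  have := t.2
  rwa [Subgroup.mem_centralizer_singleton_iff] at this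

theorem fel_of_not_comm' [Finite S] {q : ℕ} (hq : q.Prime) (hqp : q ≠ p) (hd : q ∣ Nat.card S)
    (h : ∀ x g : S, orderOf x = q → orderOf g = p → g * x ≠ x * g) : ∃ x : S, FEl p x := by
  have : Fact q.Prime := ⟨hq⟩
  obtain ⟨x, hx⟩ := exists_prime_orderOf_dvd_card' (G := S) q hd
  refine ⟨x, ⟨?_, q, 1, hq, hqp, by rw [pow_one, hx]⟩, free_of_not_comm fun g hg => h x g hx hg⟩
  rintro rfl
  rw [orderOf_one] at hx
  exact hq.one_lt.ne hx

theorem fel_of_not_comm [Finite S] {q : ℕ} (hq : q.Prime) (hqp : q ≠ p) (hd : q ∣ Nat.card S)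
    (h : ∀ x g : S, orderOf x = q → orderOf g = p → x * g ≠ g * x) : ∃ x : S, FEl p x :=
  fel_of_not_comm' hq hqp hd fun x g hx hg h' => h x g hx hg h'.symm

theorem fel_of_no_order [Finite S] {q : ℕ} (hq : q.Prime) (hqp : q ≠ p) (hd : q ∣ Nat.card S)
    (h : ∀ g : S, orderOf g ≠ q * p) : ∃ x : S, FEl p x := by
  refine fel_of_not_comm hq hqp hd fun x g hx hg hc => h (x * g) ?_
  have hcop : (orderOf x).Coprime (orderOf g) := by
    rw [hx, hg]
    exact (Nat.coprime_primes hq hp.out).2 hqp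
  rw [(show Commute x g from hc).orderOf_mul_eq_mul_orderOf_of_coprime hcop, hx, hg]

theorem fel_of_regular [Finite S] {r : ℕ} (hr : r.Prime) (hrp : r ≠ p)
    (h : ∃ z : S, z ≠ 1 ∧ (∃ k, orderOf z = r ^ k) ∧
      ∀ g : S, g * z = z * g → ∀ l, l.Prime → l ≠ r → orderOf g ≠ l) : ∃ x : S, FEl p x := by
  obtain ⟨z, hz1, ⟨k, hk⟩, hz⟩ := h
  exact ⟨z, ⟨hz1, r, k, hr, hrp, hk⟩, free_of_not_comm fun g hg hc => hz g hc p hp.out hrp.symm hg⟩

theorem fel_of_cyclic [Finite S] {q k : ℕ} (hq : q.Prime) (hqp : q ≠ p) (hk : k ≠ 0) (H : Subgroup S)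
    (hH : IsCyclic H) (hc : Nat.card H = q ^ k)
    (hs : Subgroup.centralizer (H : Set S) = H) : ∃ x : S, FEl p x := by
  obtain ⟨g, hg⟩ := hH.exists_zpow_surjective
  have hz : Subgroup.zpowers (g : S) = H := by
    apply le_antisymm
    · rw [Subgroup.zpowers_le]; exact g.2
    · intro y hy
      obtain ⟨n, hn⟩ := hg ⟨y, hy⟩
      refine ⟨n, ?_⟩
      have := congrArg Subtype.val hn
      simpa using this
  have hord : orderOf (g : S) = q ^ k := by
    rw [← Nat.card_zpowers, hz, hc]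
  refine ⟨(g : S), ⟨?_, q, k, hq, hqp, hord⟩, ?_⟩
  · intro h1
    rw [h1, orderOf_one] at hord
    exact (Nat.one_lt_pow hk hq.one_lt).ne hord
  · have h1 : Subgroup.centralizer ({(g : S)} : Set S) = H := by
      rw [← Subgroup.centralizer_closure, ← Subgroup.zpowers_eq_closure, hz, hs]
    rw [h1, hc]
    intro h2
    exact hqp ((Nat.prime_dvd_prime_iff_eq hp.out hq).1 (hp.out.dvd_of_dvd_pow h2)).symm

omit hp in
/-- Nothing to prove if `p` does not divide the order. -/
theorem good_of_not_dvd [Fact p.Prime] [Finite S] (h : ¬ p ∣ Nat.card S) : Good.{u} p S := by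
  intro M _ _ L π a hc
  exfalso
  have h1 : p ∣ Nat.card L := hc.dvd_card
  -- `L / Z(L)` has order prime to `p`: Schur–Zassenhaus/transfer; use the Sylow subgroup in the centre
  obtain ⟨T⟩ : Nonempty (Sylow p L) := inferInstance
  apply CompBasic.sylow_not_le_center_of_perfect hc.perf p h1 T
  intro t ht
  rw [← hc.ker, MonoidHom.mem_ker]
  obtain ⟨k, hk⟩ := T.isPGroup' ⟨t, ht⟩
  have h2 : t ^ p ^ k = 1 := congrArg Subtype.val hk
  have h3 : orderOf (π t) ∣ p ^ k := by
    rw [orderOf_dvd_iff_pow_eq_one, ← map_pow, h2, map_one]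
  have h4 : (orderOf (π t)).Coprime (p ^ k) := by
    apply Nat.Coprime.pow_right
    rw [Nat.coprime_comm, Nat.Prime.coprime_iff_not_dvd Fact.out]
    exact fun h5 => h (h5.trans (orderOf_dvd_natCard _))
  rw [← orderOf_eq_one_iff]
  exact Nat.Coprime.eq_one_of_dvd h4 h3

/-- The criterion with the order of the multiplier given as a number. -/
theorem good_of_mult' {S : Type} [Group S] [Finite S] {A : Type} [CommGroup A] {N : ℕ}
    (hA : Cfsg.HasSchurMultiplier S A) (hN : Nat.card A = N) (hN0 : N ≠ 0)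
    (h : p ∣ N → ∃ x : S, QEl p x ∧ N.factorization p < v p x) : Good.{u} p S := by
  subst hN
  exact good_of_mult hA hN0 h

/-- With an element whose centralizer has order prime to `p`. -/
theorem good_of_mult_fel {S : Type} [Group S] [Finite S] {A : Type} [CommGroup A] {N : ℕ}
    (hA : Cfsg.HasSchurMultiplier S A) (hN : Nat.card A = N) (hN0 : N ≠ 0)
    (h : p ∣ N → (∃ x : S, FEl p x) ∧ ∃ m : ℕ, ¬ p ^ m ∣ N ∧ p ^ m ∣ Nat.card S) : Good.{u} p S := by
  refine good_of_mult' hA hN hN0 fun hp' => ?_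
  obtain ⟨⟨x, hx⟩, m, h1, h2⟩ := h hp'
  refine ⟨x, hx.toQEl, ?_⟩
  rw [hx.v_eq]
  have h3 : N.factorization p < m := by
    by_contra hcon
    push Not at hcon
    exact h1 ((hp.out.pow_dvd_iff_le_factorization hN0).2 hcon)
  exact lt_of_lt_of_le h3 ((hp.out.pow_dvd_iff_le_factorization (Nat.card_pos (α := S)).ne').1 h2)

/-- With a bound for the `p`-part of a class size. -/
theorem good_of_mult_v {S : Type} [Group S] [Finite S] {A : Type} [CommGroup A] {N : ℕ}
    (hA : Cfsg.HasSchurMultiplier S A) (hN : Nat.card A = N) (hN0 : N ≠ 0)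
    (h : p ∣ N → ∃ m : ℕ, ¬ p ^ m ∣ N ∧ ∃ x : S, QEl p x ∧ m ≤ v p x) : Good.{u} p S := by
  refine good_of_mult' hA hN hN0 fun hp' => ?_
  obtain ⟨m, h1, x, hx, h2⟩ := h hp'
  refine ⟨x, hx, ?_⟩
  have h3 : N.factorization p < m := by
    by_contra hcon
    push Not at hcon
    exact h1 ((hp.out.pow_dvd_iff_le_factorization hN0).2 hcon)
  omega

/-- A class size divisible by `4`. -/
theorem two_le_v_of_four [Finite S] (h : Cfsg.Agent.H647.Four S) : ∃ x : S, QEl 2 x ∧ 2 ≤ v 2 x := by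
  obtain ⟨x, ⟨r, k, hr, hr2, hx⟩, h4⟩ := h
  have h5 : 2 ≤ v 2 x := by
    have h6 : (2 : ℕ) ^ 2 ∣ (Subgroup.centralizer ({x} : Set S)).index := by
      simpa using h4
    exact (Nat.prime_two.pow_dvd_iff_le_factorization Subgroup.index_ne_zero_of_finite).1 h6
  refine ⟨x, ⟨?_, r, k, hr, hr2, hx⟩, h5⟩
  rintro rfl
  have h7 : (Subgroup.centralizer ({1} : Set S)).index = 1 := by
    rw [Subgroup.index_eq_one, Subgroup.eq_top_iff']
    intro y
    rw [Subgroup.mem_centralizer_singleton_iff, mul_one, one_mul]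
  rw [h7] at h4
  omega

theorem good_two_of_four {S : Type} [Group S] [Finite S] {n : ℕ} (hn : n ≠ 0) (h4 : ¬ 4 ∣ n)
    (hA : Cfsg.HasCyclicSchurMultiplier S n) (h : Cfsg.Agent.H647.Four S) : Good.{u} 2 S := by
  have h2 : Fact (Nat.Prime 2) := ⟨Nat.prime_two⟩
  refine good_of_mult' (N := n) hA (by rw [Nat.card_congr Multiplicative.toAdd, Nat.card_zmod]) hn fun _ => ?_
  obtain ⟨x, hx, hv⟩ := two_le_v_of_four h
  refine ⟨x, hx, lt_of_lt_of_le ?_ hv⟩
  by_contra hcon
  push Not at hcon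
  exact h4 ((Nat.prime_two.pow_dvd_iff_le_factorization (k := 2) hn).2 hcon)

/-- The criterion with a trivial multiplier. -/
theorem good_of_one {S : Type} [Group S] [Finite S] (hA : Cfsg.HasCyclicSchurMultiplier S 1) : Good.{u} p S :=
  good_of_cyclic one_ne_zero hA fun h => absurd (Nat.dvd_one.1 h) hp.out.ne_one

end Cfsg.Agent.H576.Prim
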