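import Mathlib
import Cfsg.Agent.Lib.CoprimeCommutator
import Cfsg.Agent.PLocal.Uniserial

/-!
# Classes of prime power order elements: configurations and the key lemma

`v p x` is the exponent of `p` in the class size of `x`.  `Cfg p N a`: every noncentral `p`-element
of `N` has `v = a` and every noncentral `q`-element (`q ≠ p`) has `v ≤ a`.

`key`: in a configuration, a `q`-element `x` of `N` centralizes every `p`-subgroup of `N` invariant
under `x` and a Sylow `p`-subgroup of its centralizer.
-/

set_option autoImplicit false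
open Cfsg

namespace Cfsg.Agent.H576.Prim

/-- The exponent of `p` in the size of the class of `x`. -/
noncomputable abbrev v (p : ℕ) {G : Type*} [Group G] (x : G) : ℕ :=
  (Subgroup.centralizer ({x} : Set G)).index.factorization p

/-- Noncentral `p`-elements have `v = a`, noncentral `q`-elements `v ≤ a`. -/
structure Cfg (p : ℕ) {G : Type*} [Group G] (N : Subgroup G) (a : ℕ) : Prop where
  pel : ∀ y ∈ N, y ∉ Subgroup.centralizer (N : Set G) → (∃ k : ℕ, orderOf y = p ^ k) → v p y = a
  qel : ∀ x ∈ N, x ∉ Subgroup.centralizer (N : Set G) →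
    (∃ q k : ℕ, q.Prime ∧ q ≠ p ∧ orderOf x = q ^ k) → v p x ≤ a

/-- `|G|_p = |G : C(x)|_p |C(x)|_p`. -/
theorem v_add {p : ℕ} {G : Type*} [Group G] [Finite G] (x : G) :
    v p x + (Nat.card (Subgroup.centralizer ({x} : Set G))).factorization p =
      (Nat.card G).factorization p := by
  have h := Subgroup.index_mul_card (Subgroup.centralizer ({x} : Set G))
  rw [← h, Nat.factorization_mul Subgroup.index_ne_zero_of_finite Nat.card_pos.ne']
  rfl

/-- A Sylow `p`-subgroup of the centralizer, as a subgroup of `G`. -/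
structure IsSyl (p : ℕ) {G : Type*} [Group G] (x : G) (T : Subgroup G) : Prop where
  pg : IsPGroup p T
  le : T ≤ Subgroup.centralizer ({x} : Set G)
  card : (Nat.card (Subgroup.centralizer ({x} : Set G))).factorization p =
    (Nat.card T).factorization p

theorem exists_isSyl (p : ℕ) [Fact p.Prime] {G : Type*} [Group G] [Finite G] (x : G) :
    ∃ T : Subgroup G, IsSyl p x T := by
  obtain ⟨S⟩ : Nonempty (Sylow p (Subgroup.centralizer ({x} : Set G))) := inferInstance
  refine ⟨(S : Subgroup _).map (Subgroup.subtype _), ⟨S.isPGroup'.map _, Subgroup.map_subtype_le _, ?_⟩⟩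
  rw [Subgroup.card_map_of_injective (Subgroup.subtype_injective _), S.card_eq_multiplicity,
    (Fact.out : p.Prime).factorization_pow, Finsupp.single_eq_same]

theorem key {p : ℕ} [hp : Fact p.Prime] {G : Type*} [Group G] [Finite G] {N : Subgroup G} {a : ℕ}
    (hN : Cfg p N a) {x : G} (hx : x ∈ N) {q k : ℕ} (hq : q.Prime) (hqp : q ≠ p)
    (hxo : orderOf x = q ^ k) {T : Subgroup G} (hT : IsSyl p x T) (U : Subgroup G) (hU : IsPGroup p U)
    (hUN : U ≤ N) (hTU : T ≤ Subgroup.normalizer (U : Set G))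
    (hxU : x ∈ Subgroup.normalizer (U : Set G)) : U ≤ Subgroup.centralizer ({x} : Set G) := by
  -- the central case
  by_cases hxc : x ∈ Subgroup.centralizer (N : Set G)
  · intro u hu
    rw [Subgroup.mem_centralizer_singleton_iff]
    exact Subgroup.mem_centralizer_iff.1 hxc u (hUN hu)
  have hvx : v p x ≤ a := hN.qel x hx hxc ⟨q, k, hq, hqp, hxo⟩
  set X : Subgroup G := Subgroup.zpowers x with hX
  have hXcard : Nat.card X = q ^ k := by rw [hX, Nat.card_zpowers, hxo]
  induction hn : Nat.card U using Nat.strong_induction_on generalizing U with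
  | _ n ih =>
  subst hn
  by_contra hcon
  have hU1 : U ≠ ⊥ := by
    rintro rfl
    exact hcon bot_le
  have hXU : X ≤ Subgroup.normalizer (U : Set G) := by
    rw [hX, Subgroup.zpowers_le]; exact hxU
  have hcop : (Nat.card X).Coprime (Nat.card U) := by
    obtain ⟨m, hm⟩ := (IsPGroup.iff_card).1 hU
    rw [hXcard, hm]
    exact Nat.Coprime.pow _ _ ((Nat.coprime_primes hq hp.out).2 hqp)
  -- step 1
  have hsup : IsPGroup p ↥(U ⊔ T) := IsPGroup.to_sup_of_normal_left' hU hT.pg hTU
  have hnil : Group.IsNilpotent ↥(U ⊔ T) := hsup.isNilpotent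
  have h1 : ⁅U, T⁆ < U :=
    Cfsg.Agent.PLocal.Uniserial.commutator_lt (U ⊔ T) T U hnil le_sup_right le_sup_left hTU hU1
  have hTX : ∀ t ∈ T, ∀ y ∈ X, t * y = y * t := by
    intro t ht y hy
    obtain ⟨n, rfl⟩ := hy
    have h2 : t * x = x * t := Subgroup.mem_centralizer_singleton_iff.1 (hT.le ht)
    exact ((show Commute t x from h2).zpow_right n).eq
  have hcTX : ⁅T, X⁆ = ⊥ := by
    rw [Subgroup.commutator_eq_bot_iff_le_centralizer]
    intro t ht
    rw [Subgroup.mem_centralizer_iff]
    intro y hy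
    exact (hTX t ht y hy).symm
  have hXT : X ≤ Subgroup.normalizer (T : Set G) := by
    intro y hy
    rw [Subgroup.mem_normalizer_iff]
    intro t
    constructor
    · intro ht
      rw [← hTX t ht y hy, mul_inv_cancel_right]; exact ht
    · intro ht
      have h3 := hTX _ ht _ (inv_mem hy)
      have h4 : t = y⁻¹ * (y * t * y⁻¹) * y := by group
      rw [h4, ← h3, inv_mul_cancel_right]; exact ht
  have h2 : ⁅U, T⁆ ≤ Subgroup.centralizer ({x} : Set G) := by
    have hlt : Nat.card ↥⁅U, T⁆ < Nat.card U := by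
      refine lt_of_le_of_ne (Nat.le_of_dvd Nat.card_pos (Subgroup.card_dvd_of_le h1.le)) ?_
      intro he
      exact h1.ne (Subgroup.eq_of_le_of_card_ge h1.le he.ge)
    refine ih _ hlt ⁅U, T⁆ (hU.to_le h1.le) (h1.le.trans hUN) ?_ ?_ rfl
    · exact Cfsg.Agent.Lib.CoprimeCommutator.right_le_normalizer_commutator U T
    · have h5 : X ≤ Subgroup.normalizer ((⁅U, T⁆ : Subgroup G) : Set G) := by
        intro y hy
        rw [Subgroup.mem_normalizer_iff_map_conj_eq]
        rw [Subgroup.map_commutator]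
        rw [Subgroup.mem_normalizer_iff_map_conj_eq.1 (hXU hy),
          Subgroup.mem_normalizer_iff_map_conj_eq.1 (hXT hy)]
      exact h5 (Subgroup.mem_zpowers x)
  have hcx : ∀ W : Subgroup G, W ≤ Subgroup.centralizer ({x} : Set G) ↔ ⁅W, X⁆ = ⊥ := by
    intro W
    rw [Subgroup.commutator_eq_bot_iff_le_centralizer, hX]
    constructor
    · intro h w hw
      rw [Subgroup.mem_centralizer_iff]
      rintro y ⟨n, rfl⟩
      have h2 : w * x = x * w := Subgroup.mem_centralizer_singleton_iff.1 (h hw)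
      exact ((show Commute w x from h2).zpow_right n).eq.symm
    · intro h w hw
      rw [Subgroup.mem_centralizer_singleton_iff]
      exact (Subgroup.mem_centralizer_iff.1 (h hw) x (Subgroup.mem_zpowers x)).symm
  -- three subgroups
  have h3 : ⁅⁅X, U⁆, T⁆ = ⊥ := by
    apply Subgroup.commutator_commutator_eq_bot_of_rotate
    · exact (hcx _).1 h2
    · rw [hcTX, Subgroup.commutator_bot_left]
  have h4 : ⁅U, X⁆ ≤ U := Cfsg.Agent.Lib.CoprimeCommutator.commutator_le_left hXU
  have h5 : ⁅U, X⁆ = U := by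
    by_contra hne
    have hlt0 : ⁅U, X⁆ < U := lt_of_le_of_ne h4 hne
    have hlt : Nat.card ↥⁅U, X⁆ < Nat.card U := by
      refine lt_of_le_of_ne (Nat.le_of_dvd Nat.card_pos (Subgroup.card_dvd_of_le h4)) ?_
      intro he
      exact hlt0.ne (Subgroup.eq_of_le_of_card_ge h4 he.ge)
    have h6 := ih _ hlt ⁅U, X⁆ (hU.to_le h4) (h4.trans hUN) (by
      intro t ht
      have hUn := Subgroup.mem_normalizer_iff_map_conj_eq.1 (hTU ht)
      rw [Subgroup.mem_normalizer_iff_map_conj_eq, Subgroup.map_commutator, hUn]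
      congr 1
      ext y
      rw [Subgroup.mem_map]
      constructor
      · rintro ⟨z, hz, rfl⟩
        show t * z * t⁻¹ ∈ X
        rw [hTX t ht z hz, mul_inv_cancel_right]; exact hz
      · intro hy
        refine ⟨y, hy, ?_⟩
        show t * y * t⁻¹ = y
        rw [hTX t ht y hy, mul_inv_cancel_right])
      (Cfsg.Agent.Lib.CoprimeCommutator.right_le_normalizer_commutator U X (Subgroup.mem_zpowers x)) rfl
    have h7 : ⁅⁅U, X⁆, X⁆ = ⊥ := (hcx _).1 h6
    rw [Cfsg.Agent.Lib.CoprimeCommutator.commutator_commutator_eq X U hXU hcop] at h7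
    exact hcon ((hcx U).2 h7)
  rw [Subgroup.commutator_comm X U, h5] at h3
  -- `T` centralizes `U`
  obtain ⟨y, hyU, hyx⟩ := SetLike.not_le_iff_exists.1 hcon
  have hyT : ∀ t ∈ T, t * y = y * t := by
    intro t ht
    exact (Subgroup.mem_centralizer_iff.1 ((Subgroup.commutator_eq_bot_iff_le_centralizer.1 h3) hyU) t ht)
  have hynT : y ∉ T := fun h => hyx (hT.le h)
  have hyc : y ∉ Subgroup.centralizer (N : Set G) := by
    intro h
    apply hyx
    rw [Subgroup.mem_centralizer_singleton_iff]
    exact (Subgroup.mem_centralizer_iff.1 h x hx).symm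
  obtain ⟨j, hj⟩ := (IsPGroup.iff_orderOf.1 hU) ⟨y, hyU⟩
  rw [← Subgroup.orderOf_coe] at hj
  have hvy : v p y = a := hN.pel y (hUN hyU) hyc ⟨j, hj⟩
  have hyp : IsPGroup p (Subgroup.zpowers y) := by
    apply IsPGroup.of_card (n := j)
    rw [Nat.card_zpowers, hj]
  have hyn : Subgroup.zpowers y ≤ Subgroup.normalizer (T : Set G) := by
    rw [Subgroup.zpowers_le, Subgroup.mem_normalizer_iff]
    intro t
    constructor
    · intro ht
      rw [← hyT t ht, mul_inv_cancel_right]; exact ht
    · intro ht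
      have h3' : (y * t * y⁻¹) * y = y * (y * t * y⁻¹) := hyT _ ht
      have h4' : t = y⁻¹ * (y * t * y⁻¹) * y := by group
      rw [h4', mul_assoc, h3', inv_mul_cancel_left]; exact ht
  have hTy : IsPGroup p ↥(T ⊔ Subgroup.zpowers y) := IsPGroup.to_sup_of_normal_left' hT.pg hyp hyn
  have hTle : T ⊔ Subgroup.zpowers y ≤ Subgroup.centralizer ({y} : Set G) := by
    rw [sup_le_iff, Subgroup.zpowers_le]
    refine ⟨fun t ht => ?_, ?_⟩
    · rw [Subgroup.mem_centralizer_singleton_iff]; exact hyT t ht
    · rw [Subgroup.mem_centralizer_singleton_iff]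
  have hlt : T < T ⊔ Subgroup.zpowers y := by
    refine lt_of_le_of_ne le_sup_left ?_
    intro he
    exact hynT (he ▸ (le_sup_right : Subgroup.zpowers y ≤ _) (Subgroup.mem_zpowers y))
  obtain ⟨m, hm⟩ := (IsPGroup.iff_card).1 hT.pg
  obtain ⟨m', hm'⟩ := (IsPGroup.iff_card).1 hTy
  have hmm : m < m' := by
    have h8 : Nat.card T < Nat.card ↥(T ⊔ Subgroup.zpowers y) := by
      refine lt_of_le_of_ne (Nat.le_of_dvd Nat.card_pos (Subgroup.card_dvd_of_le hlt.le)) ?_
      intro he
      exact hlt.ne (Subgroup.eq_of_le_of_card_ge hlt.le he.ge)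
    rw [hm, hm'] at h8
    exact (Nat.pow_lt_pow_iff_right hp.out.one_lt).1 h8
  have h9 : m' ≤ (Nat.card (Subgroup.centralizer ({y} : Set G))).factorization p := by
    rw [← hp.out.pow_dvd_iff_le_factorization Nat.card_pos.ne', ← hm']
    exact Subgroup.card_dvd_of_le hTle
  have h10 : (Nat.card (Subgroup.centralizer ({x} : Set G))).factorization p = m := by
    rw [hT.card, hm, hp.out.factorization_pow, Finsupp.single_eq_same]
  have h11 := v_add (p := p) x
  have h12 := v_add (p := p) y
  omega

end Cfsg.Agent.H576.Prim
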