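import Cfsg.Agent.H576.PrimCrit
import Cfsg.Prelude.Def_CaseTheorems

/-!
# Class sizes of `q`-elements in groups all of whose `p`-local subgroups have characteristic `p`

* `lt_pow_v`: if `x` has prime order `q ≠ p` and commutes with an element of order `p`, then
  `q < p ^ (v p x)`;
* `le_v_of_charTwo`: groups of characteristic 2 type.
-/

set_option autoImplicit false
open Cfsg

namespace Cfsg.Agent.H576.Prim

universe u w

variable {p : ℕ} [hp : Fact p.Prime] {S : Type w} [Group S] [Finite S]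

/-- Coprime commuting step. -/
theorem commute_of_conj_mem {w y r : S} {q : ℕ} (hq : q.Prime) (hqp : q ≠ p) (hw : w ^ q = 1)
    (hr : ∃ k, orderOf r = p ^ k) (hrw : r * w = w * r) (h : y⁻¹ * w * y = r * w) : w * y = y * w := by
  have h1 : (r * w) ^ q = 1 := by
    rw [← h]
    have h2 : y⁻¹ * w * y = y⁻¹ * w * (y⁻¹)⁻¹ := by rw [inv_inv]
    rw [h2, conj_pow, hw, mul_one, mul_inv_cancel]
  rw [(show Commute r w from hrw).mul_pow, hw, mul_one] at h1
  have h3 : orderOf r = 1 := by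
    obtain ⟨k, hk⟩ := hr
    refine Nat.eq_one_of_dvd_coprimes (a := p ^ k) (b := q) ?_ ?_ (orderOf_dvd_of_pow_eq_one h1)
    · exact Nat.Coprime.pow_left _ ((Nat.coprime_primes hp.out hq).2 hqp.symm)
    · rw [← hk]
  rw [orderOf_eq_one_iff] at h3
  rw [h3, one_mul] at h
  calc w * y = y * (y⁻¹ * w * y) := by group
    _ = y * w := by rw [h]

theorem le_v (hloc : ∀ R : Subgroup S, IsPGroup p R → R ≠ ⊥ →
      Subgroup.centralizer (pCore p ↥(Subgroup.normalizer (R : Set S)) : Set ↥(Subgroup.normalizer (R : Set S))) ≤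
        pCore p ↥(Subgroup.normalizer (R : Set S)))
    {x : S} {q j : ℕ} (hq : q.Prime) (hqp : q ≠ p) (hx : orderOf x = q) (hj : p ^ j < q)
    (hd : p ^ (j + 1) ∣ Nat.card S) : j + 1 ≤ v p x := by
  by_cases hdiv : p ∣ Nat.card (Subgroup.centralizer ({x} : Set S))
  swap
  · have hf : FEl p x := by
      refine ⟨⟨?_, q, 1, hq, hqp, by rw [pow_one, hx]⟩, hdiv⟩
      rintro rfl
      rw [orderOf_one] at hx
      exact hq.one_lt.ne hx
    rw [hf.v_eq]
    exact (hp.out.pow_dvd_iff_le_factorization (Nat.card_pos (α := S)).ne').1 hd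
  by_contra hcon
  have hvj : v p x ≤ j := by omega
  obtain ⟨R₀⟩ : Nonempty (Sylow p (Subgroup.centralizer ({x} : Set S))) := inferInstance
  set R : Subgroup S := (R₀ : Subgroup (Subgroup.centralizer ({x} : Set S))).map (Subgroup.subtype _) with hR
  have hRp : IsPGroup p R := R₀.isPGroup'.map _
  have hRcard : Nat.card R = p ^ (Nat.card (Subgroup.centralizer ({x} : Set S))).factorization p := by
    rw [hR, Subgroup.card_map_of_injective (Subgroup.subtype_injective _), R₀.card_eq_multiplicity]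
  have hRne : R ≠ ⊥ := by
    intro h0
    rw [h0, Subgroup.card_bot] at hRcard
    have h1 : 1 ≤ (Nat.card (Subgroup.centralizer ({x} : Set S))).factorization p :=
      (hp.out.dvd_iff_one_le_factorization Nat.card_pos.ne').1 hdiv
    have h2 := Nat.one_lt_pow (n := (Nat.card (Subgroup.centralizer ({x} : Set S))).factorization p)
      (by omega) hp.out.one_lt
    omega
  have hRx : ∀ r ∈ R, r * x = x * r := by
    rintro _ ⟨r, -, rfl⟩
    exact Subgroup.mem_centralizer_singleton_iff.1 r.2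
  set N : Subgroup S := Subgroup.normalizer (R : Set S) with hN
  have hxN : x ∈ N := by
    rw [hN, Subgroup.mem_normalizer_iff]
    intro r
    constructor
    · intro hr
      have h1 : x * r * x⁻¹ = r := by rw [← hRx r hr, mul_inv_cancel_right]
      rwa [h1]
    · intro hr
      have h1 := hRx _ hr
      have h2 : x * r * x⁻¹ = r := by
        have h3 : x * r = x * (x * r * x⁻¹) := by rw [← h1]; group
        have h4 := mul_left_cancel h3
        exact h4.symm
      rwa [h2] at hr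
  set Q : Subgroup S := (pCore p N).map N.subtype with hQ
  have hcore : IsPGroup p (pCore p N) := Lib.Cores.pCore_isPGroup p
  have hQp : IsPGroup p Q := hcore.map _
  have hRN : R ≤ N := Subgroup.le_normalizer
  have hRQ : R ≤ Q := by
    have h1 : R.subgroupOf N ≤ pCore p N := by
      apply Lib.Cores.le_pCore
      · exact Subgroup.normal_in_normalizer
      · exact hRp.comap_of_injective _ N.subtype_injective
    have h2 := Subgroup.map_mono (f := N.subtype) h1
    rwa [Subgroup.map_subgroupOf_eq_of_le hRN] at h2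
  -- the index
  obtain ⟨b, hb⟩ := (IsPGroup.iff_card).1 hQp
  have hb1 : b ≤ (Nat.card S).factorization p := by
    rw [← hp.out.pow_dvd_iff_le_factorization (Nat.card_pos (α := S)).ne', ← hb]
    exact Subgroup.card_subgroup_dvd_card Q
  have hva := v_add (p := p) x
  have hidx : R.relIndex Q ≤ p ^ j := by
    have h1 : Nat.card R * R.relIndex Q = Nat.card Q := card_mul_relIndex hRQ
    rw [hRcard, hb] at h1
    by_contra hc
    push Not at hc
    have h2 : p ^ ((Nat.card (Subgroup.centralizer ({x} : Set S))).factorization p + j) < p ^ b := by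
      rw [← h1, pow_add]
      exact Nat.mul_lt_mul_of_pos_left hc (pow_pos hp.out.pos _)
    have h3 := (Nat.pow_lt_pow_iff_right hp.out.one_lt).1 h2
    omega
  -- `x` centralizes `Q`
  have hxQ : ∀ y ∈ Q, x * y = y * x := by
    intro y hy
    have hconj : ∀ i : ℕ, x ^ i * y * (x ^ i)⁻¹ ∈ Q := by
      intro i
      obtain ⟨y', hy', rfl⟩ := hy
      have hn : (pCore p N).Normal := Lib.Cores.pCore_normal p
      exact ⟨_, hn.conj_mem y' hy' (⟨x, hxN⟩ ^ i), rfl⟩
    let f : Fin q → Q ⧸ R.subgroupOf Q := fun i => QuotientGroup.mk ⟨_, hconj i⟩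
    have hfin : Finite (Q ⧸ R.subgroupOf Q) := inferInstance
    have hft := Fintype.ofFinite (Q ⧸ R.subgroupOf Q)
    have hcard : Fintype.card (Q ⧸ R.subgroupOf Q) < Fintype.card (Fin q) := by
      rw [Fintype.card_fin, ← Nat.card_eq_fintype_card]
      exact lt_of_le_of_lt hidx hj
    obtain ⟨i, k, hik, hfik⟩ := Fintype.exists_ne_map_eq_of_card_lt f hcard
    wlog hlt : i < k generalizing i k
    · exact this k i hik.symm hfik.symm (lt_of_le_of_ne (not_lt.1 hlt) hik.symm)
    have h1 := QuotientGroup.eq.1 hfik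
    rw [Subgroup.mem_subgroupOf] at h1
    push_cast at h1
    obtain ⟨m, hm⟩ := Nat.exists_eq_add_of_lt (show (i : ℕ) < k from hlt)
    set w := x ^ (m + 1) with hw
    have hkw : x ^ (k : ℕ) = x ^ (i : ℕ) * w := by rw [hw, ← pow_add, hm]; rfl
    set r := (x ^ (i : ℕ) * y * (x ^ (i : ℕ))⁻¹)⁻¹ * (x ^ (k : ℕ) * y * (x ^ (k : ℕ))⁻¹) with hr
    have hrc : ∀ n : ℕ, r * x ^ n = x ^ n * r := by
      intro n
      exact ((show Commute r x from hRx r h1).pow_right n).eq
    have h2 : y⁻¹ * w * y = r * w := by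
      have h3 : r = (x ^ (i : ℕ))⁻¹ * r * x ^ (i : ℕ) := by
        rw [mul_assoc, hrc]; group
      have h4 : (x ^ (i : ℕ))⁻¹ * r * x ^ (i : ℕ) = y⁻¹ * (w * y * w⁻¹) := by
        rw [hr, hkw]
        have hc : x ^ (i : ℕ) * w = w * x ^ (i : ℕ) := by rw [hw, ← pow_add, ← pow_add, add_comm]
        have hc' : (x ^ (i : ℕ) * w)⁻¹ * x ^ (i : ℕ) = w⁻¹ := by rw [mul_inv_rev]; group
        calc (x ^ (i : ℕ))⁻¹ * ((x ^ (i : ℕ) * y * (x ^ (i : ℕ))⁻¹)⁻¹ *
              ((x ^ (i : ℕ) * w) * y * (x ^ (i : ℕ) * w)⁻¹)) * x ^ (i : ℕ)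
            = y⁻¹ * w * y * ((x ^ (i : ℕ) * w)⁻¹ * x ^ (i : ℕ)) := by group
          _ = y⁻¹ * (w * y * w⁻¹) := by rw [hc']; group
      rw [h3, h4]; group
    have hwq : w ^ q = 1 := by
      rw [hw, ← pow_mul, mul_comm, pow_mul, ← hx, pow_orderOf_eq_one, one_pow]
    have hrk : ∃ k, orderOf r = p ^ k := by
      obtain ⟨k', hk'⟩ := (IsPGroup.iff_orderOf.1 hRp) ⟨r, h1⟩
      exact ⟨k', by rw [← hk', Subgroup.orderOf_mk]⟩
    have h5 : w * y = y * w := commute_of_conj_mem hq hqp hwq hrk (hrc _) h2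
    -- `x` is a power of `w`
    have hcop : (m + 1).Coprime q := by
      rw [Nat.coprime_comm, Nat.Prime.coprime_iff_not_dvd hq]
      intro h6
      have h7 := Nat.le_of_dvd (Nat.succ_pos m) h6
      have h8 : (k : ℕ) < q := k.2
      omega
    obtain ⟨n, -, hn⟩ := Nat.exists_mul_mod_eq_one_of_coprime hcop hq.one_lt
    have h6 : w ^ n = x := by
      rw [hw, ← pow_mul]
      conv_rhs => rw [← pow_one x]
      rw [pow_eq_pow_iff_modEq, hx]
      show (m + 1) * n % q = 1 % q
      rw [hn, Nat.mod_eq_of_lt hq.one_lt]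
    rw [← h6]
    exact ((show Commute w y from h5).pow_left n).eq
  -- the contradiction
  have h1 : (⟨x, hxN⟩ : N) ∈ Subgroup.centralizer (pCore p N : Set N) := by
    rw [Subgroup.mem_centralizer_iff]
    intro y hy
    apply Subtype.ext
    exact (hxQ y ⟨y, hy, rfl⟩).symm
  have h2 := hloc R hRp hRne h1
  obtain ⟨k, hk⟩ := (IsPGroup.iff_orderOf.1 hcore) ⟨_, h2⟩
  rw [← Subgroup.orderOf_coe, Subgroup.orderOf_mk, hx] at hk
  exact hqp ((Nat.prime_dvd_prime_iff_eq hq hp.out).1 (hq.dvd_of_dvd_pow (dvd_of_eq hk)))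

theorem le_v_of_charTwo (hS : IsCharacteristicTwoType S) {q j : ℕ} (hq : q.Prime) (hq2 : q ≠ 2)
    (hqd : q ∣ Nat.card S) (hj : 2 ^ j < q) (hd : 2 ^ (j + 1) ∣ Nat.card S) :
    ∃ x : S, QEl 2 x ∧ j + 1 ≤ v 2 x := by
  have h2 : Fact (Nat.Prime 2) := ⟨Nat.prime_two⟩
  have hqf : Fact q.Prime := ⟨hq⟩
  obtain ⟨x, hx⟩ := exists_prime_orderOf_dvd_card' (G := S) q hqd
  refine ⟨x, ⟨?_, q, 1, hq, hq2, by rw [pow_one, hx]⟩, le_v hS.2 hq hq2 hx hj hd⟩
  rintro rfl
  rw [orderOf_one] at hx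
  exact hq.one_lt.ne hx

end Cfsg.Agent.H576.Prim
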