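import Cfsg.Agent.H576.PrimExc
import Cfsg.Agent.J4Type.InvFix
import Cfsg.Agent.OddHalf.Small.Mathieu
import Cfsg.Agent.SporadicA.MathieuRecog
import Cfsg.Agent.S2036
import Cfsg.Prelude.Def_Spor_Mathieu

/-!
# The row `M22`
-/

set_option autoImplicit false
open Cfsg

namespace Cfsg.Agent.H576.Prim

open Cfsg.Agent.J4Type.InvFix Cfsg.Agent.SporadicStructure.M24IndexAbs

universe u

section m24

/-- An element of order 11 of `M24` commutes with no element of order 3. -/
theorem m24_eleven_three {x y : M24} (hx : orderOf x = 11) (hy : orderOf y = 3) (hxy : x * y = y * x) : False := by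
  classical
  have hx11 : x ^ 11 = 1 := by rw [← hx]; exact pow_orderOf_eq_one x
  have hy3 : y ^ 3 = 1 := by rw [← hy]; exact pow_orderOf_eq_one y
  have hx1 : x ≠ 1 := by rintro rfl; rw [orderOf_one] at hx; omega
  have hy1 : y ≠ 1 := by rintro rfl; rw [orderOf_one] at hy; omega
  have hc : Commute x y := hxy
  have hz : ∀ n : ℕ, (x * y) ^ n = x ^ n * y ^ n := fun n => hc.mul_pow n
  have hz12 : (x * y) ^ 12 = x := by
    rw [hz, show (12 : ℕ) = 11 + 1 from rfl, pow_add x, hx11, one_mul, pow_one, show (11 + 1 : ℕ) = 3 * 4 from rfl,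
      pow_mul, hy3, one_pow, mul_one]
  have hz33 : (x * y) ^ 33 = 1 := by
    rw [hz, show (33 : ℕ) = 11 * 3 from rfl, pow_mul, hx11, one_pow, one_mul, show (11 * 3 : ℕ) = 3 * 11 from rfl,
      pow_mul, hy3, one_pow]
  have hz22 : (x * y) ^ 22 = y := by
    rw [hz, show (22 : ℕ) = 11 * 2 from rfl, pow_mul, hx11, one_pow, one_mul, show (11 * 2 : ℕ) = 3 * 7 + 1 from rfl,
      pow_add, pow_mul, hy3, one_pow, one_mul, pow_one]
  -- `y` fixes the points moved by `x`
  have key : ∀ a : GolayPt, x • a ≠ a → y • a = a := by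
    intro a ha
    obtain ⟨i, j, hij, he⟩ : ∃ i j : Fin 33, i < j ∧ (x * y) ^ (i : ℕ) • a = (x * y) ^ (j : ℕ) • a := by
      by_contra hcon
      push Not at hcon
      have hinj : Function.Injective (fun i : Fin 33 => (x * y) ^ (i : ℕ) • a) := by
        intro i j hij
        rcases lt_trichotomy i j with h | h | h
        · exact absurd hij (hcon i j h)
        · exact h
        · exact absurd hij.symm (hcon j i h)
      have h := Fintype.card_le_of_injective _ hinj
      rw [Fintype.card_fin] at h
      have h24 : Fintype.card GolayPt = 24 := by simp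
      omega
    have hd : (x * y) ^ ((j : ℕ) - i) • a = a := by
      have h1 : (x * y) ^ (j : ℕ) = (x * y) ^ (i : ℕ) * (x * y) ^ ((j : ℕ) - i) := by
        rw [← pow_add]; congr 1; omega
      rw [h1, mul_smul] at he
      exact (MulAction.injective _ he).symm
    have hpow : ∀ k : ℕ, (x * y) ^ (((j : ℕ) - i) * k) • a = a := by
      intro k
      induction k with
      | zero => simp
      | succ k ih => rw [Nat.mul_succ, pow_add, mul_smul, hd, ih]
    have hfix : ∀ m : ℕ, m ≡ 22 [MOD 33] → (x * y) ^ m • a = a → y • a = a := by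
      intro m hm h
      rw [← pow_mod_orderOf] at h
      have : (x * y) ^ m = (x * y) ^ 22 := by
        rw [pow_eq_pow_iff_modEq]
        exact hm.of_dvd (orderOf_dvd_of_pow_eq_one hz33)
      rw [pow_mod_orderOf, this, hz22] at h
      exact h
    have hmov : ∀ m : ℕ, m ≡ 12 [MOD 33] → (x * y) ^ m • a ≠ a := by
      intro m hm h
      have : (x * y) ^ m = (x * y) ^ 12 := by
        rw [pow_eq_pow_iff_modEq]
        exact hm.of_dvd (orderOf_dvd_of_pow_eq_one hz33)
      rw [this, hz12] at h
      exact ha h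
    set d : ℕ := (j : ℕ) - i with hdd
    have hd0 : 0 < d := by rw [hdd]; omega
    have hd33 : d < 33 := by have := j.2; omega
    by_cases h11 : d = 11 ∨ d = 22
    · rcases h11 with h | h
      · refine hfix (d * 2) ?_ (hpow 2)
        rw [h]
      · refine hfix (d * 1) ?_ (hpow 1)
        rw [h]
    · exfalso
      -- some multiple of `d` is `12` modulo `33`
      have : ∃ k : ℕ, d * k % 33 = 12 := by
        have h' : ∀ d : ℕ, d < 33 → 0 < d → d ≠ 11 → d ≠ 22 → ∃ k < 33, d * k % 33 = 12 := by decide
        obtain ⟨k, -, hk⟩ := h' d hd33 hd0 (fun h => h11 (Or.inl h)) (fun h => h11 (Or.inr h))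
        exact ⟨k, hk⟩
      obtain ⟨k, hk⟩ := this
      exact hmov (d * k) (by unfold Nat.ModEq; rw [hk]) (hpow k)
  -- the fixed points of `x`
  have hF : (Finset.univ.filter fun a : GolayPt => x • a = a).card ≤ 4 := fixBound24 11 (by norm_num) (by norm_num) x hx1 hx11
  have : Fact (Nat.Prime 11) := ⟨by norm_num⟩
  have : Fact (Nat.Prime 3) := ⟨by norm_num⟩
  have hF2 := card_filter_modEq (g := x) (p := 11) hx11 (Finset.univ : Finset GolayPt) (fun a _ => Finset.mem_univ _)
  have h24 : (Finset.univ : Finset GolayPt).card = 24 := by simp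
  rw [h24] at hF2
  have hF3 : (Finset.univ.filter fun a : GolayPt => x • a = a).card = 2 := by
    have h := hF2
    unfold Nat.ModEq at h
    generalize (Finset.univ.filter fun a : GolayPt => x • a = a).card = c at h hF ⊢
    omega
  have hyF := smul_eq_of_card_lt (g := y) (p := 3) hy3 (Finset.univ.filter fun a : GolayPt => x • a = a) (by
    intro a ha
    rw [Finset.mem_filter] at ha ⊢
    refine ⟨Finset.mem_univ _, ?_⟩
    rw [← mul_smul, hxy, mul_smul, ha.2]) (by rw [hF3]; norm_num)
  apply hy1
  have hall : ∀ a : GolayPt, y • a = a := by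
    intro a
    by_cases h : x • a = a
    · exact hyF a (Finset.mem_filter.2 ⟨Finset.mem_univ _, h⟩)
    · exact key a h
  apply eq_of_smul_eq_smul (α := GolayPt)
  intro a
  rw [hall, one_smul]

end m24

/-- The inclusion of `M22` in `M24`. -/
def incM22 : Spor.M22 →* M24 where
  toFun g := ⟨(g : Equiv.Perm GolayPt), g.2.1.1⟩
  map_one' := rfl
  map_mul' _ _ := rfl

theorem incM22_injective : Function.Injective incM22 := by
  intro a b h
  exact Subtype.ext (congrArg (fun g : M24 => (g : Equiv.Perm GolayPt)) h)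

theorem m22_eleven_three {x y : Spor.M22} (hx : orderOf x = 11) (hy : orderOf y = 3) : x * y ≠ y * x := by
  intro hxy
  refine m24_eleven_three (x := incM22 x) (y := incM22 y) ?_ ?_ ?_
  · rw [orderOf_injective incM22 incM22_injective, hx]
  · rw [orderOf_injective incM22 incM22_injective, hy]
  · rw [← map_mul, hxy, map_mul]

theorem good_m22 {p : ℕ} [hp : Fact p.Prime] {S : Type u} [Group S] [Finite S] (h : Spor.IsoM22 S) : Good.{u} p S := by
  obtain ⟨e⟩ := h
  have hf : Finite Spor.M22 := Finite.of_equiv _ e.toEquiv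
  have hcard : Nat.card Spor.M22 = 443520 := Cfsg.Agent.SporadicA.MathieuRecog.card_M22
  refine Good.congr e.symm (good_of_mult_v (N := 12) S2036.result (by simp [Nat.card_zmod]) (by norm_num) fun h => ?_)
  rcases eq_two_or_three (a := 2) (b := 1) hp.out h with rfl | rfl
  · refine ⟨3, by norm_num, le_v_of_charTwo (j := 2) (q := 5) Cfsg.Agent.OddHalf.Small.Mathieu.charTwo_M22
      (by norm_num) (by norm_num) ?_ (by norm_num) ?_⟩
    · rw [hcard]; norm_num
    · rw [hcard]; norm_num
  · obtain ⟨x, hx⟩ := fel_of_not_comm (p := 3) (S := Spor.M22) (q := 11) (by norm_num) (by norm_num)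
      (by rw [hcard]; norm_num) (fun x g hx hg => m22_eleven_three hx hg)
    refine ⟨2, by norm_num, x, hx.toQEl, ?_⟩
    rw [hx.v_eq, ← Nat.prime_three.pow_dvd_iff_le_factorization Nat.card_pos.ne', hcard]
    norm_num

end Cfsg.Agent.H576.Prim
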