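import Mathlib
import Cfsg.Prelude
import Cfsg.Agent.Lib.Cores
import Cfsg.Agent.Transfer.PGroupNormal

/-!
# Class sizes of elements of a normal subgroup: elementary tools
-/

set_option autoImplicit false
open Cfsg

namespace Cfsg.Agent.H576.Sizes

/-- If the `p`-elements of `N` are not all central in `N`, some noncentral `p`-element `y ∈ P` has
a class under `P` of size at most `|Z(N)|_p`. -/
theorem exists_small {G : Type*} [Group G] [Finite G] (N : Subgroup G) [N.Normal] (p : ℕ)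
    [Fact p.Prime] (P : Sylow p G)
    (hP : ¬ (P : Subgroup G) ⊓ N ≤ Subgroup.centralizer (N : Set G)) :
    ∃ y ∈ (P : Subgroup G) ⊓ N, y ∉ Subgroup.centralizer (N : Set G) ∧
      ∀ g ∈ (P : Subgroup G), g * y * g⁻¹ * y⁻¹ ∈
        (P : Subgroup G) ⊓ N ⊓ Subgroup.centralizer (N : Set G) := by
  set C := Subgroup.centralizer (N : Set G) with hC
  have hCn : C.Normal := inferInstance
  let A : Subgroup P := (N ⊓ C).subgroupOf P
  let B : Subgroup P := N.subgroupOf P
  have hAn : A.Normal := by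
    have : (N ⊓ C).Normal := inferInstance
    infer_instance
  have hBn : B.Normal := inferInstance
  have hPG : IsPGroup p (P ⧸ A) := P.isPGroup'.to_quotient A
  have hK : B.map (QuotientGroup.mk' A) ≠ ⊥ := by
    intro h
    apply hP
    intro x hx
    have h1 : (⟨x, hx.1⟩ : P) ∈ B := hx.2
    have h2 := Subgroup.mem_map_of_mem (QuotientGroup.mk' A) h1
    rw [h, Subgroup.mem_bot] at h2
    have h3 : (⟨x, hx.1⟩ : P) ∈ A := (QuotientGroup.eq_one_iff _).1 h2
    exact h3.2
  have hBn' : (B.map (QuotientGroup.mk' A)).Normal := hBn.map _ (QuotientGroup.mk'_surjective A)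
  obtain ⟨z, hzK, hzc, hzo⟩ :=
    Cfsg.Agent.Transfer.PGroupNormal.exists_mem_inf_center_orderOf hPG _ hK
  obtain ⟨y, hyB, rfl⟩ := hzK
  have hp : p.Prime := Fact.out
  refine ⟨y, ⟨y.2, hyB⟩, ?_, ?_⟩
  · intro hyC
    have h3 : y ∈ A := ⟨hyB, hyC⟩
    have h4 : QuotientGroup.mk' A y = 1 := (QuotientGroup.eq_one_iff _).2 h3
    rw [h4, orderOf_one] at hzo
    exact hp.one_lt.ne hzo
  · intro g hg
    have h1 := Subgroup.mem_center_iff.1 hzc (QuotientGroup.mk' A ⟨g, hg⟩)
    have h2 : QuotientGroup.mk' A (⟨g, hg⟩ * y * ⟨g, hg⟩⁻¹ * y⁻¹) = 1 := by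
      rw [map_mul, map_mul, map_mul, h1, map_inv, map_inv]
      group
    have h3 : (⟨g, hg⟩ * y * ⟨g, hg⟩⁻¹ * y⁻¹ : P) ∈ A := (QuotientGroup.eq_one_iff _).1 h2
    have h4 : g * (y : G) * g⁻¹ * (y : G)⁻¹ ∈ N ⊓ C := h3
    have h5 : g * (y : G) * g⁻¹ * (y : G)⁻¹ ∈ (P : Subgroup G) :=
      (⟨g, hg⟩ * y * ⟨g, hg⟩⁻¹ * y⁻¹ : P).2
    exact ⟨⟨h5, h4.1⟩, h4.2⟩

/-- The index of `C_P(y)` in `P` is at most the order of the group containing the `[g, y]`. -/
theorem relIndex_le {G : Type*} [Group G] [Finite G] (P Z : Subgroup G) (y : G)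
    (h : ∀ g ∈ P, g * y * g⁻¹ * y⁻¹ ∈ Z) :
    (Subgroup.centralizer ({y} : Set G)).relIndex P ≤ Nat.card Z := by
  classical
  have hinj : ∀ g h' : P, g * y * g⁻¹ * y⁻¹ = (h' : G) * y * (h' : G)⁻¹ * y⁻¹ →
      (QuotientGroup.mk g : P ⧸ (Subgroup.centralizer ({y} : Set G)).subgroupOf P) =
        QuotientGroup.mk h' := by
    intro g h' hgh
    rw [QuotientGroup.eq, Subgroup.mem_subgroupOf, Subgroup.mem_centralizer_singleton_iff]
    have h1 : (g : G) * y * (g : G)⁻¹ = (h' : G) * y * (h' : G)⁻¹ := mul_right_cancel hgh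
    push_cast
    calc (g : G)⁻¹ * h' * y = (g : G)⁻¹ * (h' * y * (h' : G)⁻¹) * h' := by group
      _ = (g : G)⁻¹ * (g * y * (g : G)⁻¹) * h' := by rw [h1]
      _ = y * ((g : G)⁻¹ * h') := by group
  let f : (P ⧸ (Subgroup.centralizer ({y} : Set G)).subgroupOf P) → Z := fun q =>
    ⟨(q.out : G) * y * (q.out : G)⁻¹ * y⁻¹, h _ q.out.2⟩
  have hf : Function.Injective f := by
    intro a b hab
    have h1 := congrArg Subtype.val hab
    have h2 := hinj a.out b.out h1
    rwa [QuotientGroup.out_eq', QuotientGroup.out_eq'] at h2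
  exact Nat.card_le_card_of_injective f hf

/-- `p`-part of the class size and a Sylow subgroup. -/
theorem pow_dvd_relIndex {G : Type*} [Group G] [Finite G] (p : ℕ) [Fact p.Prime] (P : Sylow p G)
    (y : G) (k : ℕ) (hk : p ^ k ∣ (Subgroup.centralizer ({y} : Set G)).index) :
    p ^ k ∣ (Subgroup.centralizer ({y} : Set G)).relIndex (P : Subgroup G) := by
  have hp : p.Prime := Fact.out
  set C := Subgroup.centralizer ({y} : Set G) with hC
  -- `C.relIndex P * P.index = |G : C ∩ P|` is divisible by `C.index`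
  have h1 : C.relIndex (P : Subgroup G) * (P : Subgroup G).index = (C ⊓ P).index := by
    rw [← Subgroup.inf_relIndex_right]
    exact Subgroup.relIndex_mul_index inf_le_right
  have h2 : C.index ∣ (C ⊓ P).index := Subgroup.index_dvd_of_le inf_le_left
  have h3 : p ^ k ∣ C.relIndex (P : Subgroup G) * (P : Subgroup G).index := by
    rw [h1]; exact hk.trans h2
  have h4 : (p ^ k).Coprime (P : Subgroup G).index :=
    Nat.Coprime.pow_left k ((Nat.Prime.coprime_iff_not_dvd hp).2 P.not_dvd_index)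
  exact h4.dvd_of_dvd_mul_right h3

/-- If every power of `x` of prime power order is in `H` then `x ∈ H`. -/
theorem mem_of_primePow {G : Type*} [Group G] [Finite G] (H : Subgroup G) (x : G)
    (h : ∀ y ∈ Subgroup.zpowers x, IsPrimePow (orderOf y) → y ∈ H) : x ∈ H := by
  have h1 : H.subgroupOf (Subgroup.zpowers x) = ⊤ := by
    apply Cfsg.Agent.Lib.Cores.eq_top_of_sylow_le
    intro p hp
    obtain ⟨P⟩ : Nonempty (Sylow p (Subgroup.zpowers x)) := inferInstance
    refine ⟨P, ?_⟩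
    intro y hy
    rw [Subgroup.mem_subgroupOf]
    by_cases hy1 : y = 1
    · rw [hy1]; exact H.one_mem
    obtain ⟨k, hk⟩ := (IsPGroup.iff_orderOf.1 P.isPGroup') ⟨y, hy⟩
    rw [← Subgroup.orderOf_coe, ← Subgroup.orderOf_coe] at hk
    apply h _ y.2
    simp only at hk
    rw [hk]
    refine (Fact.out : p.Prime).isPrimePow.pow ?_
    rintro rfl
    rw [pow_zero, orderOf_eq_one_iff] at hk
    exact hy1 (Subtype.ext hk)
  have h2 : (⟨x, Subgroup.mem_zpowers x⟩ : Subgroup.zpowers x) ∈ H.subgroupOf (Subgroup.zpowers x) := by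
    rw [h1]; trivial
  exact h2

/-- A `p`-element is conjugate into a given Sylow subgroup. -/
theorem exists_conj_mem {G : Type*} [Group G] [Finite G] (p : ℕ) [Fact p.Prime] (P : Sylow p G)
    (s : G) (hs : ∃ k : ℕ, orderOf s = p ^ k) : ∃ g : G, g * s * g⁻¹ ∈ (P : Subgroup G) := by
  obtain ⟨k, hk⟩ := hs
  have h1 : IsPGroup p (Subgroup.zpowers s) := by
    apply IsPGroup.of_card (n := k)
    rw [Nat.card_zpowers, hk]
  obtain ⟨Q, hQ⟩ := h1.exists_le_sylow
  obtain ⟨g, hg⟩ := MulAction.exists_smul_eq G Q P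
  refine ⟨g, ?_⟩
  rw [← hg]
  have h2 : s ∈ (Q : Subgroup G) := hQ (Subgroup.mem_zpowers s)
  have h3 : (g • Q : Sylow p G) = (g • Q : Sylow p G) := rfl
  rw [← SetLike.mem_coe, Sylow.coe_coe, Sylow.coe_smul]
  exact ⟨s, h2, rfl⟩

end Cfsg.Agent.H576.Sizes
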