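import Cfsg.Agent.S4319
import Cfsg.Agent.H576.SizesBase
import Cfsg.Agent.SignalizersComponents.ComponentExists

/-!
# Class sizes of prime power order elements of a normal subgroup

* `isSolvable_of_central_sylow`: `N ⊴ G` with central Sylow `p`-subgroup, no noncentral element of
  prime power order centralized by a Sylow `p`-subgroup of `G` ⟹ `N` solvable.
-/

set_option autoImplicit false
open Cfsg

namespace Cfsg.Agent.H576.Sizes

/-- **Coprime case.** A normal subgroup of order prime to `p` such that every element of prime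
power order centralized by the Sylow subgroup `P` is central, is solvable. -/
theorem isSolvable_of_coprime {G : Type*} [Group G] [Finite G] (M : Subgroup G) [M.Normal] (p : ℕ)
    [Fact p.Prime] (P : Sylow p G) (hM : ¬ p ∣ Nat.card M)
    (h : ∀ x ∈ M, IsPrimePow (orderOf x) → (P : Subgroup G) ≤ Subgroup.centralizer ({x} : Set G) →
      x ∈ Subgroup.centralizer (M : Set G)) : Group.IsSolvable M := by
  have hp : p.Prime := Fact.out
  let act : MulDistribMulAction P M :=
    MulDistribMulAction.compHom M ((MulAut.conjNormal (H := M)).comp (P : Subgroup G).subtype)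
  have hact : ∀ (g : P) (m : M), ((g • m : M) : G) = (g : G) * m * (g : G)⁻¹ := fun g m => rfl
  have hcop : (Nat.card M).Coprime (Nat.card P) := by
    obtain ⟨n, hn⟩ := (IsPGroup.iff_card).1 P.isPGroup'
    rw [hn]
    exact Nat.Coprime.pow_right n ((Nat.Prime.coprime_iff_not_dvd hp).2 hM).symm
  apply Cfsg.Agent.S4319.result (A := P) (G := M) hcop
  left
  -- the fixed points are central
  have key : ∀ x : M, x ∈ FixedPoints.subgroup P M → x ∈ Subgroup.center M := by
    intro x hx
    apply mem_of_primePow
    intro y hy hyo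
    rw [Subgroup.mem_center_iff]
    have hyc : (P : Subgroup G) ≤ Subgroup.centralizer ({(y : G)} : Set G) := by
      intro g hg
      rw [Subgroup.mem_centralizer_singleton_iff]
      have h1 : y ∈ FixedPoints.subgroup P M := by
        obtain ⟨n, rfl⟩ := hy
        exact Subgroup.zpow_mem _ hx n
      have h2 : (⟨g, hg⟩ : P) • y = y := h1 ⟨g, hg⟩
      have h3 := congrArg (Subtype.val) h2
      rw [hact] at h3
      simp only at h3
      exact mul_inv_eq_iff_eq_mul.1 h3
    have h4 := h y y.2 (by rwa [Subgroup.orderOf_coe]) hyc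
    intro g
    apply Subtype.ext
    exact Subgroup.mem_centralizer_iff.1 h4 g g.2
  have hcomm : ∀ a b : FixedPoints.subgroup P M, a * b = b * a := by
    intro a b
    apply Subtype.ext
    exact Subgroup.mem_center_iff.1 (key b b.2) a
  let _inst : CommGroup (FixedPoints.subgroup P M) := { mul_comm := hcomm }
  infer_instance

/-- `N ⊴ G` with central Sylow `p`-subgroups. -/
theorem isSolvable_of_central_sylow {G : Type*} [Group G] [Finite G] (N : Subgroup G) [hN : N.Normal]
    (p : ℕ) [Fact p.Prime] (P : Sylow p G)
    (hP : (P : Subgroup G) ⊓ N ≤ Subgroup.centralizer (N : Set G))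
    (h : ∀ x ∈ N, IsPrimePow (orderOf x) → (P : Subgroup G) ≤ Subgroup.centralizer ({x} : Set G) →
      x ∈ Subgroup.centralizer (N : Set G)) : Group.IsSolvable N := by
  have hp : p.Prime := Fact.out
  have hCn : (Subgroup.centralizer (N : Set G)).Normal := inferInstance
  obtain ⟨S⟩ : Nonempty (Sylow p N) := inferInstance
  have hSc : ∀ s ∈ (S : Subgroup N), s ∈ Subgroup.center N := by
    intro s hs
    obtain ⟨k, hk⟩ := (IsPGroup.iff_orderOf.1 S.isPGroup') ⟨s, hs⟩
    rw [← Subgroup.orderOf_coe, ← Subgroup.orderOf_coe] at hk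
    obtain ⟨g, hg⟩ := exists_conj_mem p P (s : G) ⟨k, hk⟩
    have h1 : g * (s : G) * g⁻¹ ∈ Subgroup.centralizer (N : Set G) :=
      hP ⟨hg, hN.conj_mem _ s.2 g⟩
    have h2 := hCn.conj_mem _ h1 g⁻¹
    have h3 : g⁻¹ * (g * (s : G) * g⁻¹) * g⁻¹⁻¹ = s := by group
    rw [h3] at h2
    rw [Subgroup.mem_center_iff]
    intro n
    apply Subtype.ext
    exact Subgroup.mem_centralizer_iff.1 h2 n n.2
  have hSN : Subgroup.normalizer ((S : Subgroup N) : Set N) ≤
      Subgroup.centralizer ((S : Subgroup N) : Set N) := by
    intro n _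
    refine Subgroup.mem_centralizer_iff.2 fun s hs => ?_
    exact (Subgroup.mem_center_iff.1 (hSc s hs) n).symm
  -- the normal complement
  let K : Subgroup N := pPrimeCore p N
  have hKc : K.Characteristic := Cfsg.Agent.Lib.Cores.pPrimeCore_characteristic p
  have hker : (MonoidHom.transferSylow S hSN).ker ≤ K := by
    apply Cfsg.Agent.Lib.Cores.le_pPrimeCore inferInstance
    exact ((Nat.Prime.coprime_iff_not_dvd hp).2
      (MonoidHom.not_dvd_card_ker_transferSylow S hSN)).symm
  have hidx : K.index ∣ Nat.card S := by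
    rw [← (MonoidHom.ker_transferSylow_isComplement' S hSN).symm.index_eq_card]
    exact Subgroup.index_dvd_of_le hker
  have hKp : ¬ p ∣ Nat.card K :=
    (Nat.Prime.coprime_iff_not_dvd hp).1
      (Cfsg.Agent.Lib.Cores.pPrimeCore_coprime (G := N) p).symm
  let M : Subgroup G := K.map N.subtype
  have hMn : M.Normal := ConjAct.normal_of_characteristic_of_normal
  have hMN : M ≤ N := Subgroup.map_subtype_le K
  have hMcard : Nat.card M = Nat.card K := Subgroup.card_map_of_injective N.subtype_injective
  have hMs : Group.IsSolvable M := by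
    apply isSolvable_of_coprime M p P (by rw [hMcard]; exact hKp)
    intro x hx hxo hxP
    have h1 := h x (hMN hx) hxo hxP
    exact Subgroup.centralizer_le hMN h1
  have hKs : Group.IsSolvable K := by
    have e := K.equivMapOfInjective N.subtype N.subtype_injective
    exact Group.isSolvable_of_surjective (f := e.symm.toMonoidHom) e.symm.surjective
  have hQ : Group.IsSolvable (N ⧸ K) := by
    have hpg : IsPGroup p (N ⧸ K) := by
      obtain ⟨n, hn⟩ := (IsPGroup.iff_card).1 S.isPGroup'
      rw [hn] at hidx
      obtain ⟨m, -, hm⟩ := (Nat.dvd_prime_pow hp).1 hidx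
      exact IsPGroup.of_card (n := m) hm
    have := hpg.isNilpotent
    infer_instance
  exact (Group.isSolvable_iff_subgroup_quotient K).2 ⟨hKs, hQ⟩

end Cfsg.Agent.H576.Sizes
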