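import Cfsg.Agent.H576.PrimQuot
import Cfsg.Agent.H576.Sizes

/-!
# Class sizes of prime power order elements with constant `p`-part: assembly
-/

set_option autoImplicit false
open Cfsg

namespace Cfsg.Agent.H576.Prim

universe u v w

/-- `Good` is invariant under isomorphism. -/
theorem Good.congr {p : ℕ} {S : Type v} {S' : Type w} [Group S] [Group S'] (e : S ≃* S')
    (h : Good.{u} p S) : Good.{u} p S' := by
  intro M _ _ L π a hc
  refine h M L (e.symm.toMonoidHom.comp π) a ⟨hc.normal, hc.perf, e.symm.surjective.comp hc.surj, ?_,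
    hc.kp, hc.kne, hc.cfg⟩
  rw [← hc.ker]
  ext x
  rw [MonoidHom.mem_ker, MonoidHom.mem_ker]
  exact map_eq_one_iff e.symm e.symm.injective

theorem main {G : Type u} [Group G] [Finite G] (N : Subgroup G) [N.Normal] (p : ℕ) [Fact p.Prime]
    (a : ℕ) (ha : 1 ≤ a)
    (h : ∀ x : G, x ∈ N → (∃ y ∈ N, x * y ≠ y * x) → IsPrimePow (orderOf x) →
      ((Subgroup.centralizer ({x} : Set G)).index).factorization p = a)
    (good : ∀ (S : Type u) [Group S] [Finite S] [IsSimpleGroup S], (∃ x y : S, x * y ≠ y * x) →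
      Good.{u, u} p S) :
    Group.IsSolvable N ∧ ∃ K : Subgroup G, K ≤ N ∧ (K.subgroupOf N).Normal ∧ ¬ p ∣ Nat.card K ∧
      ∃ k : ℕ, K.relIndex N = p ^ k := by
  have hp : p.Prime := Fact.out
  have hnc : ∀ x ∈ N, x ∉ Subgroup.centralizer (N : Set G) → ∃ y ∈ N, x * y ≠ y * x := by
    intro x _ hxc
    by_contra hcon
    push Not at hcon
    exact hxc (Subgroup.mem_centralizer_iff.2 fun g hg => (hcon g hg).symm)
  have hpp : ∀ x ∈ N, x ∉ Subgroup.centralizer (N : Set G) → (∃ q k : ℕ, q.Prime ∧ orderOf x = q ^ k) →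
      IsPrimePow (orderOf x) := by
    rintro x _ hxc ⟨q, k, hq, hk⟩
    rw [hk]
    refine hq.isPrimePow.pow ?_
    rintro rfl
    rw [pow_zero, orderOf_eq_one_iff] at hk
    exact hxc (by rw [hk]; exact Subgroup.one_mem _)
  have hN : Cfg p N a := by
    constructor
    · rintro y hy hyc ⟨k, hk⟩
      exact h y hy (hnc y hy hyc) (hpp y hy hyc ⟨p, k, hp, hk⟩)
    · rintro x hx hxc ⟨q, k, hq, -, hk⟩
      exact (h x hx (hnc x hx hxc) (hpp x hx hxc ⟨q, k, hq, hk⟩)).le
  obtain ⟨k, hk⟩ := relIndex_of_good N p ha hN good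
  have hchar : (pPrimeCore p N).Characteristic := Lib.Cores.pPrimeCore_characteristic p
  set K : Subgroup G := (pPrimeCore p N).map N.subtype with hKdef
  have hKn : K.Normal := ConjAct.normal_of_characteristic_of_normal
  have hKN : K ≤ N := Subgroup.map_subtype_le _
  have hKcard : Nat.card K = Nat.card (pPrimeCore p N) :=
    Subgroup.card_map_of_injective N.subtype_injective
  have hKp : ¬ p ∣ Nat.card K := by
    rw [hKcard]
    exact (Nat.Prime.coprime_iff_not_dvd hp).1
      (Cfsg.Agent.Lib.Cores.pPrimeCore_coprime (G := N) p).symm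
  obtain ⟨P⟩ : Nonempty (Sylow p G) := inferInstance
  have hKs : Group.IsSolvable K := by
    apply Sizes.isSolvable_of_coprime K p P hKp
    intro x hx hxo hxP
    by_contra hxc
    have hxc' : x ∉ Subgroup.centralizer (N : Set G) := fun h' => hxc (Subgroup.centralizer_le hKN h')
    have h1 := h x (hKN hx) (hnc x (hKN hx) hxc') hxo
    have h2 : p ∣ (Subgroup.centralizer ({x} : Set G)).index :=
      Nat.dvd_of_factorization_pos (by omega)
    exact P.not_dvd_index (h2.trans (Subgroup.index_dvd_of_le hxP))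
  have hKs' : Group.IsSolvable (K.subgroupOf N) :=
    Group.isSolvable_of_surjective (f := (Subgroup.subgroupOfEquivOfLe hKN).symm.toMonoidHom)
      (Subgroup.subgroupOfEquivOfLe hKN).symm.surjective
  have hKnn : (K.subgroupOf N).Normal := inferInstance
  have hQ : Group.IsSolvable (N ⧸ K.subgroupOf N) := by
    have hpg : IsPGroup p (N ⧸ K.subgroupOf N) := IsPGroup.of_card (n := k) hk
    have := hpg.isNilpotent
    infer_instance
  exact ⟨(Group.isSolvable_iff_subgroup_quotient (K.subgroupOf N)).2 ⟨hKs', hQ⟩, K, hKN, hKnn, hKp, k, hk⟩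

end Cfsg.Agent.H576.Prim
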