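import Cfsg.Agent.H576.PrimRed
import Cfsg.Agent.SignalizersComponents.CoprimeBasic

/-!
# Configurations modulo `O_{p'}(N)`
-/

set_option autoImplicit false
open Cfsg

namespace Cfsg.Agent.H576.Prim

universe u

theorem card_mul_relIndex {G : Type*} [Group G] {H K : Subgroup G} (h : H ≤ K) :
    Nat.card H * H.relIndex K = Nat.card K := by
  have h1 := Subgroup.relIndex_mul_relIndex (⊥ : Subgroup G) H K bot_le h
  rwa [Subgroup.relIndex_bot_left, Subgroup.relIndex_bot_left] at h1

/-- Elements of prime power order lift. -/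
theorem exists_lift {G : Type*} [Group G] [Finite G] {K : Subgroup G} [K.Normal] {q : ℕ} (hq : q.Prime)
    (n : G) {k : ℕ} (hk : orderOf (QuotientGroup.mk' K n) = q ^ k) :
    ∃ m : ℕ, QuotientGroup.mk' K (n ^ m) = QuotientGroup.mk' K n ∧ ∃ j : ℕ, orderOf (n ^ m) = q ^ j := by
  obtain ⟨j, m, hm, hjm⟩ := Nat.exists_eq_pow_mul_and_not_dvd (orderOf_pos n).ne' q hq.ne_one
  have hcop : (m).Coprime (q ^ k) :=
    Nat.Coprime.pow_right k ((Nat.Prime.coprime_iff_not_dvd hq).2 hm).symm
  obtain ⟨s, hs1, hs2⟩ := Nat.chineseRemainder hcop 0 1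
  obtain ⟨u, rfl⟩ : m ∣ s := (Nat.modEq_zero_iff_dvd).1 hs1
  have hmod : m * u ≡ 1 [MOD q ^ k] := hs2
  refine ⟨m * u, ?_, ?_⟩
  · rw [map_pow]
    conv_rhs => rw [← pow_one (QuotientGroup.mk' K n)]
    rw [pow_eq_pow_iff_modEq, hk]
    exact hmod
  · have h1 : orderOf (n ^ (m * u)) ∣ q ^ j := by
      rw [orderOf_dvd_iff_pow_eq_one, ← pow_mul]
      have : m * u * q ^ j = orderOf n * u := by rw [hjm]; ring
      rw [this, pow_mul, pow_orderOf_eq_one, one_pow]
    obtain ⟨i, -, hi⟩ := (Nat.dvd_prime_pow hq).1 h1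
    exact ⟨i, hi⟩

theorem cfg_quotient {G : Type*} [Group G] [Finite G] {N K : Subgroup G} [N.Normal] [K.Normal]
    {p : ℕ} [hp : Fact p.Prime] {a : ℕ} (hN : Cfg p N a) (hK : ¬ p ∣ Nat.card K) :
    Cfg p (N.map (QuotientGroup.mk' K)) a := by
  have hc : ∀ n ∈ N, QuotientGroup.mk' K n ∉ Subgroup.centralizer (N.map (QuotientGroup.mk' K) : Set (G ⧸ K)) →
      n ∉ Subgroup.centralizer (N : Set G) := by
    intro n _ hn h
    apply hn
    rw [Subgroup.mem_centralizer_iff]
    rintro _ ⟨m, hm, rfl⟩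
    rw [← map_mul, ← map_mul, Subgroup.mem_centralizer_iff.1 h m hm]
  have hidx : ∀ n : G, v p (QuotientGroup.mk' K n) =
      ((Subgroup.centralizer ({QuotientGroup.mk' K n} : Set (G ⧸ K))).comap
        (QuotientGroup.mk' K)).index.factorization p := by
    intro n
    rw [Subgroup.index_comap_of_surjective _ (QuotientGroup.mk'_surjective K)]
  have hle : ∀ n : G, Subgroup.centralizer ({n} : Set G) ≤
      (Subgroup.centralizer ({QuotientGroup.mk' K n} : Set (G ⧸ K))).comap (QuotientGroup.mk' K) := by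
    intro n g hg
    rw [Subgroup.mem_comap, Subgroup.mem_centralizer_singleton_iff, ← map_mul, ← map_mul,
      Subgroup.mem_centralizer_singleton_iff.1 hg]
  constructor
  · rintro _ ⟨n, hn, rfl⟩ hnc ⟨k, hk⟩
    obtain ⟨m, hm1, j, hj⟩ := exists_lift hp.out n hk
    have hm2 : n ^ m ∈ N := N.pow_mem hn m
    rw [← hm1] at hnc ⊢
    have h1 := hN.pel (n ^ m) hm2 (hc _ hm2 hnc) ⟨j, hj⟩
    set y := n ^ m with hy
    rw [hidx y]
    set C := Subgroup.centralizer ({y} : Set G) with hC
    have h2 : (Subgroup.centralizer ({QuotientGroup.mk' K y} : Set (G ⧸ K))).comap (QuotientGroup.mk' K) =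
        C ⊔ K := by
      apply le_antisymm
      · intro g hg
        rw [Subgroup.mem_comap, Subgroup.mem_centralizer_singleton_iff, ← map_mul, ← map_mul] at hg
        have h3 : g⁻¹ * (y * g * y⁻¹) ∈ K := by
          have h4 : (g * y)⁻¹ * (y * g) ∈ K := QuotientGroup.eq.1 hg
          have h5 : g⁻¹ * (y * g * y⁻¹) = y * ((g * y)⁻¹ * (y * g)) * y⁻¹ := by group
          rw [h5]
          exact (inferInstance : K.Normal).conj_mem _ h4 y
        obtain ⟨d, hd, hdy⟩ := SignalizersComponents.CoprimeBasic.exists_fixed_in_coset_of_pow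
          (p := p) y j (by rw [← hj, pow_orderOf_eq_one]) K hK
          (fun d hd => (inferInstance : K.Normal).conj_mem d hd y) g h3
        have h6 : g = g * d * d⁻¹ := by group
        rw [h6]
        refine Subgroup.mul_mem_sup ?_ (K.inv_mem hd)
        rw [hC, Subgroup.mem_centralizer_singleton_iff]
        exact hdy.symm
      · rw [sup_le_iff]
        refine ⟨hle y, ?_⟩
        intro g hg
        rw [Subgroup.mem_comap]
        have : QuotientGroup.mk' K g = 1 := (QuotientGroup.eq_one_iff g).2 hg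
        rw [this]
        exact Subgroup.one_mem _
    rw [h2]
    have h3 : C.relIndex (C ⊔ K) * (C ⊔ K).index = C.index := Subgroup.relIndex_mul_index le_sup_left
    have h4 : C.relIndex (C ⊔ K) ∣ Nat.card K := by
      have h41 : C.relIndex (C ⊔ K) * Nat.card C = Nat.card ↥(C ⊔ K) := by
        rw [mul_comm]; exact card_mul_relIndex le_sup_left
      have h42 : Nat.card K * K.relIndex (C ⊔ K) = Nat.card ↥(C ⊔ K) :=
        card_mul_relIndex le_sup_right
      rw [Subgroup.relIndex_sup_right] at h42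
      have h43 : Nat.card ↥(K ⊓ C) * (K ⊓ C).relIndex C = Nat.card C :=
        card_mul_relIndex inf_le_right
      rw [Subgroup.inf_relIndex_right] at h43
      have h44 : 0 < K.relIndex C :=
        Nat.pos_of_ne_zero (Subgroup.index_ne_zero_of_finite (H := K.subgroupOf C))
      have h45 : (C.relIndex (C ⊔ K) * Nat.card ↥(K ⊓ C)) * K.relIndex C = Nat.card K * K.relIndex C := by
        rw [h42, ← h41, ← h43, mul_assoc]
      have h46 := Nat.eq_of_mul_eq_mul_right h44 h45
      exact ⟨_, h46.symm⟩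
    have h5 : C.relIndex (C ⊔ K) ≠ 0 :=
      Subgroup.index_ne_zero_of_finite (H := C.subgroupOf (C ⊔ K))
    have h6 : (C.relIndex (C ⊔ K)).factorization p = 0 :=
      Nat.factorization_eq_zero_of_not_dvd fun h => hK (h.trans h4)
    have h7 : C.index.factorization p = (C ⊔ K).index.factorization p := by
      rw [← h3, Nat.factorization_mul h5 Subgroup.index_ne_zero_of_finite, Finsupp.add_apply, h6,
        zero_add]
    rw [← h7]
    exact h1
  · rintro _ ⟨n, hn, rfl⟩ hnc ⟨q, k, hq, hqp, hk⟩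
    obtain ⟨m, hm1, j, hj⟩ := exists_lift hq n hk
    have hm2 : n ^ m ∈ N := N.pow_mem hn m
    rw [← hm1] at hnc ⊢
    have h1 := hN.qel (n ^ m) hm2 (hc _ hm2 hnc) ⟨q, j, hq, hqp, hj⟩
    refine le_trans ?_ h1
    rw [hidx (n ^ m)]
    exact (Nat.factorization_le_iff_dvd Subgroup.index_ne_zero_of_finite
      Subgroup.index_ne_zero_of_finite).2 (Subgroup.index_dvd_of_le (hle (n ^ m))) p

/-- **`p`-nilpotency.** -/
theorem relIndex_of_good {G : Type u} [Group G] [Finite G] (N : Subgroup G) [hNn : N.Normal]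
    (p : ℕ) [hp : Fact p.Prime] {a : ℕ} (ha : 1 ≤ a) (hN : Cfg p N a)
    (good : ∀ (S : Type u) [Group S] [Finite S] [IsSimpleGroup S], (∃ x y : S, x * y ≠ y * x) →
      Good.{u, u} p S) : ∃ k : ℕ, ((pPrimeCore p N).map N.subtype).relIndex N = p ^ k := by
  have hchar : (pPrimeCore p N).Characteristic := Lib.Cores.pPrimeCore_characteristic p
  set K : Subgroup G := (pPrimeCore p N).map N.subtype with hKdef
  have hKn : K.Normal := ConjAct.normal_of_characteristic_of_normal
  have hKN : K ≤ N := Subgroup.map_subtype_le _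
  have hKcard : Nat.card K = Nat.card (pPrimeCore p N) :=
    Subgroup.card_map_of_injective N.subtype_injective
  have hK : ¬ p ∣ Nat.card K := by
    rw [hKcard]
    exact (Nat.Prime.coprime_iff_not_dvd hp.out).1
      (Cfsg.Agent.Lib.Cores.pPrimeCore_coprime (G := N) p).symm
  have hKs : K.subgroupOf N = pPrimeCore p N := by
    rw [hKdef, Subgroup.subgroupOf, Subgroup.comap_map_eq_self_of_injective N.subtype_injective]
  let f : N →* N.map (QuotientGroup.mk' K) := (QuotientGroup.mk' K).subgroupMap N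
  have hf : Function.Surjective f := (QuotientGroup.mk' K).subgroupMap_surjective N
  have hfk : f.ker = pPrimeCore p N := by
    ext n
    rw [MonoidHom.mem_ker, ← hKs, Subgroup.mem_subgroupOf, Subtype.ext_iff]
    exact QuotientGroup.eq_one_iff (n : G)
  have e : (N ⧸ pPrimeCore p N) ≃* N.map (QuotientGroup.mk' K) :=
    (QuotientGroup.quotientMulEquivOfEq hfk.symm).trans
      (QuotientGroup.quotientKerEquivOfSurjective f hf)
  have hO : pPrimeCore p (N.map (QuotientGroup.mk' K)) = ⊥ := by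
    rw [← Lib.Cores.map_equiv_pPrimeCore e p, Lib.Cores.pPrimeCore_quotient_pPrimeCore, Subgroup.map_bot]
  have hNq : (N.map (QuotientGroup.mk' K)).Normal := hNn.map _ (QuotientGroup.mk'_surjective K)
  have h1 := isPGroup_of_good (N.map (QuotientGroup.mk' K)) p ha (cfg_quotient hN hK) hO good
  have h2 : IsPGroup p (N ⧸ pPrimeCore p N) := h1.of_equiv e.symm
  obtain ⟨k, hk⟩ := (IsPGroup.iff_card).1 h2
  refine ⟨k, ?_⟩
  rw [← hk, Subgroup.relIndex, hKs]
  rfl

end Cfsg.Agent.H576.Prim
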