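import Cfsg.Agent.H576.PrimKey
import Cfsg.Agent.H576.SizesBase
import Cfsg.Agent.SignalizersComponents.ComponentExists
import Cfsg.Agent.SignalizersComponents.CompOrbit
import Cfsg.Agent.SignalizersComponents.LayerCenter
import Cfsg.Agent.SignalizersComponents.LayerBasic

/-!
# Configurations: reduction to quasisimple groups

`isPGroup_of_good`: a configuration `N ⊴ G` with `a ≥ 1` and `O_{p'}(N) = 1` in which no
quasisimple configuration with nontrivial centre of `p`-power order is involved, is a `p`-group.
-/

set_option autoImplicit false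
open Cfsg

namespace Cfsg.Agent.H576.Prim

open Cfsg.Agent.SignalizersComponents

universe u w

/-- A quasisimple configuration over the simple group `S`. -/
structure Conf (p : ℕ) {M : Type u} [Group M] (L : Subgroup M) {S : Type w} [Group S] (π : L →* S)
    (a : ℕ) : Prop where
  normal : L.Normal
  perf : Group.IsPerfect L
  surj : Function.Surjective π
  ker : π.ker = Subgroup.center L
  kp : IsPGroup p (Subgroup.center L)
  kne : Subgroup.center L ≠ ⊥
  cfg : Cfg p L a

/-- There is no quasisimple configuration over `S`. -/
def Good (p : ℕ) (S : Type w) [Group S] : Prop :=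
  ∀ (M : Type u) [Group M] [Finite M] (L : Subgroup M) (π : L →* S) (a : ℕ), ¬ Conf p L π a

/-- A component of a normal subgroup of `G`, as a subgroup of `G`. -/
theorem centralizer_le_normalizer {G : Type*} [Group G] [Finite G] {L : Subgroup G}
    (hL : IsComponent L) {g : G} (hg : g ∈ L) (hgc : g ∉ Subgroup.centralizer (L : Set G)) :
    Subgroup.centralizer ({g} : Set G) ≤ Subgroup.normalizer (L : Set G) := by
  intro c hc
  rw [Subgroup.mem_normalizer_iff_map_conj_eq]
  by_contra hne
  apply hgc
  have h1 := Components.isComponent_conj c hL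
  have h2 : g ∈ L.map (MulAut.conj c).toMonoidHom := by
    refine ⟨g, hg, ?_⟩
    show c * g * c⁻¹ = g
    rw [Subgroup.mem_centralizer_singleton_iff.1 hc, mul_inv_cancel_right]
  exact Components.component_le_centralizer_of_ne h1 hL hne h2

theorem isPGroup_of_good {G : Type u} [Group G] [Finite G] (N : Subgroup G) [hNn : N.Normal]
    (p : ℕ) [hp : Fact p.Prime] {a : ℕ} (ha : 1 ≤ a) (hN : Cfg p N a) (hO : pPrimeCore p N = ⊥)
    (good : ∀ (S : Type u) [Group S] [Finite S] [IsSimpleGroup S], (∃ x y : S, x * y ≠ y * x) →
      Good.{u, u} p S) : IsPGroup p N := by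
  by_cases hlay : layer N = ⊥
  · -- no components
    have hF := ComponentExists.centralizer_fitting_le_of_layer_eq_bot (G := N) hlay
    have hFp := CompOrbit.fittingSubgroup_le_pCore (G := N) hO
    have hcc : Subgroup.centralizer (pCore p N : Set N) ≤ pCore p N :=
      (Subgroup.centralizer_le hFp).trans (hF.trans hFp)
    have hcore : IsPGroup p (pCore p N) := Lib.Cores.pCore_isPGroup p
    have hchar : (pCore p N).Characteristic := Lib.Cores.pCore_characteristic p
    have hUn : ((pCore p N).map N.subtype).Normal := ConjAct.normal_of_characteristic_of_normal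
    -- no `q`-elements
    have key : ∀ (x : N) (q : ℕ), q.Prime → q ≠ p → orderOf x ≠ q := by
      intro x q hq hqp hxo
      obtain ⟨T, hT⟩ := exists_isSyl p (x : G)
      have h1 := Prim.key hN x.2 (q := q) (k := 1) hq hqp
        (by rw [Subgroup.orderOf_coe, hxo, pow_one]) hT ((pCore p N).map N.subtype)
        (hcore.map _) (Subgroup.map_subtype_le _) (by rw [Subgroup.normalizer_eq_top]; exact le_top)
        (by rw [Subgroup.normalizer_eq_top]; trivial)
      have h2 : x ∈ Subgroup.centralizer (pCore p N : Set N) := by
        rw [Subgroup.mem_centralizer_iff]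
        intro u hu
        apply Subtype.ext
        exact Subgroup.mem_centralizer_singleton_iff.1 (h1 (Subgroup.mem_map_of_mem _ hu))
      obtain ⟨k, hk⟩ := (IsPGroup.iff_orderOf.1 hcore) ⟨x, hcc h2⟩
      rw [← Subgroup.orderOf_coe] at hk
      simp only at hk
      rw [hxo] at hk
      rcases Nat.eq_zero_or_pos k with h0 | h0
      · rw [h0, pow_zero] at hk
        exact hq.one_lt.ne' hk
      · have h3 : p ∣ q := by rw [hk]; exact dvd_pow_self p h0.ne'
        exact hqp ((Nat.prime_dvd_prime_iff_eq hp.out hq).1 h3).symm
    rw [IsPGroup.iff_card]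
    obtain ⟨n, m, hm, hnm⟩ := Nat.exists_eq_pow_mul_and_not_dvd (Nat.card_pos (α := N)).ne' p hp.out.ne_one
    refine ⟨n, ?_⟩
    by_cases hm1 : m = 1
    · rw [hnm, hm1, mul_one]
    · exfalso
      obtain ⟨q, hq, hqm⟩ := Nat.exists_prime_and_dvd hm1
      have : Fact q.Prime := ⟨hq⟩
      obtain ⟨x, hx⟩ := exists_prime_orderOf_dvd_card' (G := N) q (by rw [hnm]; exact hqm.mul_left _)
      refine key x q hq ?_ hx
      rintro rfl
      exact hm hqm
  · exfalso
    rw [ComponentExists.layer_eq_bot_iff] at hlay
    push Not at hlay
    obtain ⟨K, hK⟩ := hlay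
    have hNs : N.IsSubnormal := hNn.isSubnormal
    set L : Subgroup G := K.map N.subtype with hLdef
    have hL : IsComponent L := Components.isComponent_map_subtype hNs hK
    have hLN : L ≤ N := Subgroup.map_subtype_le K
    have hLc : ∀ g ∈ L, g ∉ Subgroup.centralizer (L : Set G) → g ∉ Subgroup.centralizer (N : Set G) :=
      fun g _ h h' => h (Subgroup.centralizer_le hLN h')
    -- `O_{p'}(L) = 1`
    have hOL : pPrimeCore p K = ⊥ := by
      have h1 := CompBasic.map_subtype_pPrimeCore_of_subnormal p hK.1
      rw [hO, inf_bot_eq, Subgroup.map_eq_bot_iff, Subgroup.ker_subtype, le_bot_iff] at h1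
      exact h1
    have hOL' : pPrimeCore p L = ⊥ := by
      have e : K ≃* L := K.equivMapOfInjective N.subtype N.subtype_injective
      rw [← Lib.Cores.map_equiv_pPrimeCore e p, hOL, Subgroup.map_bot]
    have hpL : p ∣ Nat.card L := by
      by_contra hnd
      have h1 : (Nat.card L).Coprime p := ((Nat.Prime.coprime_iff_not_dvd hp.out).2 hnd).symm
      have h2 := (Lib.Cores.pPrimeCore_eq_top_iff (G := L) p).2 h1
      rw [hOL'] at h2
      have h3 := Components.quasisimple_nontrivial hL.2
      exact bot_ne_top h2
    have hcp : IsPGroup p (Subgroup.center L) := by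
      rw [IsPGroup.iff_card]
      obtain ⟨n, m, hm, hnm⟩ := Nat.exists_eq_pow_mul_and_not_dvd
        (Nat.card_pos (α := Subgroup.center L)).ne' p hp.out.ne_one
      refine ⟨n, ?_⟩
      by_cases hm1 : m = 1
      · rw [hnm, hm1, mul_one]
      · exfalso
        obtain ⟨q, hq, hqm⟩ := Nat.exists_prime_and_dvd hm1
        have : Fact q.Prime := ⟨hq⟩
        obtain ⟨z, hz⟩ := exists_prime_orderOf_dvd_card' (G := Subgroup.center L) q
          (by rw [hnm]; exact hqm.mul_left _)
        have hzo : orderOf (z : L) = q := by rw [Subgroup.orderOf_coe, hz]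
        have hzn : (Subgroup.zpowers (z : L)).Normal := by
          refine ⟨fun y hy g => ?_⟩
          have h1 : Subgroup.zpowers (z : L) ≤ Subgroup.center L := by
            rw [Subgroup.zpowers_le]; exact z.2
          rw [Subgroup.mem_center_iff.1 (h1 hy) g, mul_inv_cancel_right]
          exact hy
        have hzc : (Nat.card (Subgroup.zpowers (z : L))).Coprime p := by
          rw [Nat.card_zpowers, hzo]
          refine (Nat.coprime_primes hq hp.out).2 ?_
          rintro rfl
          exact hm hqm
        have h1 := Lib.Cores.le_pPrimeCore hzn hzc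
        rw [hOL', le_bot_iff, Subgroup.zpowers_eq_bot] at h1
        rw [h1, orderOf_one] at hzo
        exact hq.one_lt.ne hzo
    by_cases hZ : Subgroup.center L = ⊥
    · -- the simple case
      let ι := {K : Subgroup G // ∃ g : G, K = L.map (MulAut.conj g).toMonoidHom}
      let H : ι → Subgroup G := fun i => i.1
      have hcomp : ∀ i : ι, IsComponent (H i) := by
        rintro ⟨_, g, rfl⟩
        exact Components.isComponent_conj g hL
      have hpc : Pairwise fun i j : ι => ∀ x y : G, x ∈ H i → y ∈ H j → Commute x y := by
        intro i j hij x y hx hy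
        have h1 := Components.component_le_centralizer_of_ne (hcomp i) (hcomp j)
          (fun h => hij (Subtype.ext h)) hx
        exact (Subgroup.mem_centralizer_iff.mp h1 y hy).symm
      set E : Subgroup G := ⨆ i, H i with hE
      have hcent : (Subgroup.center E).map E.subtype = ⊥ := by
        rw [hE, LayerCenter.map_center_iSup hpc, iSup_eq_bot]
        rintro ⟨_, g, rfl⟩
        rw [LayerCenter.map_center_eq, eq_bot_iff]
        rintro z ⟨⟨l, hl, rfl⟩, hz2⟩
        have h1 : (⟨l, hl⟩ : L) ∈ Subgroup.center L := by
          rw [Subgroup.mem_center_iff]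
          intro m
          apply Subtype.ext
          have h2 := Subgroup.mem_centralizer_iff.1 hz2 (g * m * g⁻¹)
            (Subgroup.mem_map_of_mem (MulAut.conj g).toMonoidHom m.2)
          have h3 : g * ((m : G) * l) * g⁻¹ = g * (l * (m : G)) * g⁻¹ := by
            have h4 : g * (m : G) * g⁻¹ * (g * l * g⁻¹) = g * l * g⁻¹ * (g * (m : G) * g⁻¹) := h2
            calc g * ((m : G) * l) * g⁻¹ = g * (m : G) * g⁻¹ * (g * l * g⁻¹) := by group
              _ = g * l * g⁻¹ * (g * (m : G) * g⁻¹) := h4
              _ = g * (l * (m : G)) * g⁻¹ := by group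
          exact mul_left_cancel (mul_right_cancel h3)
        rw [hZ, Subgroup.mem_bot] at h1
        have h5 : l = 1 := congrArg Subtype.val h1
        rw [h5, map_one]
        exact Subgroup.mem_bot.2 rfl
      have hLE : L ≤ E := by
        have h1 := le_iSup H ⟨L, 1, by
          ext x
          simp⟩
        exact h1
      have hEn : E.Normal := by
        refine ⟨fun x hx g => ?_⟩
        have h1 : E.map (MulAut.conj g).toMonoidHom ≤ E := by
          rw [hE, Subgroup.map_iSup, iSup_le_iff]
          rintro ⟨_, c, rfl⟩
          refine le_trans (le_of_eq ?_) (le_iSup H ⟨L.map (MulAut.conj (g * c)).toMonoidHom, g * c, rfl⟩)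
          show (L.map (MulAut.conj c).toMonoidHom).map (MulAut.conj g).toMonoidHom = _
          rw [Subgroup.map_map]
          congr 1
          ext y
          simp [mul_assoc]
        exact h1 (Subgroup.mem_map_of_mem (MulAut.conj g).toMonoidHom hx)
      have hEN : E ≤ N := by
        rw [hE, iSup_le_iff]
        rintro ⟨_, g, rfl⟩
        rintro _ ⟨l, hl, rfl⟩
        exact hNn.conj_mem l (hLN hl) g
      obtain ⟨P⟩ : Nonempty (Sylow p G) := inferInstance
      have hPE : ((P : Subgroup G) ⊓ E).subgroupOf P ≠ ⊥ := by
        intro h0
        obtain ⟨s, hs⟩ := exists_prime_orderOf_dvd_card' (G := L) p hpL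
        obtain ⟨g, hg⟩ := Sizes.exists_conj_mem p P (s : G) ⟨1, by
          rw [Subgroup.orderOf_coe, hs, pow_one]⟩
        have h1 : (⟨g * (s : G) * g⁻¹, hg⟩ : P) ∈ ((P : Subgroup G) ⊓ E).subgroupOf P :=
          ⟨hg, hEn.conj_mem _ (hLE s.2) g⟩
        rw [h0, Subgroup.mem_bot] at h1
        have h2 : g * (s : G) * g⁻¹ = 1 := congrArg Subtype.val h1
        have h3 : (s : G) = 1 := by
          have h4 : (s : G) = g⁻¹ * (g * (s : G) * g⁻¹) * g := by group
          rw [h4, h2]; group
        have h4 : s = 1 := Subtype.ext h3
        rw [h4, orderOf_one] at hs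
        exact hp.out.one_lt.ne hs
      have hPEn : (((P : Subgroup G) ⊓ E).subgroupOf P).Normal := by
        rw [Subgroup.inf_subgroupOf_left]
        infer_instance
      obtain ⟨w, hwE, hwc, hwo⟩ :=
        Cfsg.Agent.Transfer.PGroupNormal.exists_mem_inf_center_orderOf P.isPGroup' _ hPE
      have hwE' : (w : G) ∈ E := hwE.2
      have hwc' : (P : Subgroup G) ≤ Subgroup.centralizer ({(w : G)} : Set G) := by
        intro g hg
        rw [Subgroup.mem_centralizer_singleton_iff]
        exact congrArg Subtype.val (Subgroup.mem_center_iff.1 hwc ⟨g, hg⟩)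
      have hwN : (w : G) ∉ Subgroup.centralizer (N : Set G) := by
        intro h1
        have h2 : (w : G) ∈ (Subgroup.center E).map E.subtype := by
          rw [LayerCenter.map_center_eq]
          exact ⟨hwE', Subgroup.centralizer_le hEN h1⟩
        rw [hcent, Subgroup.mem_bot] at h2
        have h3 : w = 1 := Subtype.ext h2
        rw [h3, orderOf_one] at hwo
        exact hp.out.one_lt.ne hwo
      have hv := hN.pel w (hEN hwE') hwN ⟨1, by rw [Subgroup.orderOf_coe, hwo, pow_one]⟩
      have h0 : v p (w : G) = 0 := by
        apply Nat.factorization_eq_zero_of_not_dvd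
        intro hd
        exact P.not_dvd_index (hd.trans (Subgroup.index_dvd_of_le hwc'))
      omega
    · -- nontrivial centre: a quasisimple configuration
      set M : Subgroup G := Subgroup.normalizer (L : Set G) with hM
      have hLM : L ≤ M := Subgroup.le_normalizer
      let L' : Subgroup M := L.subgroupOf M
      let e : L' ≃* L := Subgroup.subgroupOfEquivOfLe hLM
      have hcenter : (Subgroup.center L').map e.toMonoidHom = Subgroup.center L :=
        LayerBasic.map_center_equiv e
      have hqs : IsQuasisimple L' := Components.isQuasisimple_of_mulEquiv e.symm hL.2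
      have hsimple : IsSimpleGroup (L' ⧸ Subgroup.center L') := hqs.2
      have hindex : ∀ g : M, (g : G) ∈ L → (g : G) ∉ Subgroup.centralizer (L : Set G) →
          v p (g : G) = v p g + M.index.factorization p := by
        intro g hg hgc
        have h1 := centralizer_le_normalizer hL hg hgc
        have h2 : (Subgroup.centralizer ({g} : Set M)) =
            (Subgroup.centralizer ({(g : G)} : Set G)).subgroupOf M := by
          ext m
          rw [Subgroup.mem_subgroupOf, Subgroup.mem_centralizer_singleton_iff,
            Subgroup.mem_centralizer_singleton_iff, Subtype.ext_iff]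
          rfl
        have h3 := Subgroup.relIndex_mul_index h1
        have h4 : v p (g : G) = ((Subgroup.centralizer ({(g : G)} : Set G)).relIndex M * M.index).factorization p := by
          rw [h3]
        have h5 : (Subgroup.centralizer ({(g : G)} : Set G)).relIndex M ≠ 0 :=
          (Subgroup.index_ne_zero_of_finite (H := (Subgroup.centralizer ({(g : G)} : Set G)).subgroupOf M))
        rw [h4, Nat.factorization_mul h5 Subgroup.index_ne_zero_of_finite]
        show _ = (Subgroup.centralizer ({g} : Set M)).index.factorization p + _
        rw [h2]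
        rfl
      have hcM : ∀ g : M, g ∈ L' → g ∉ Subgroup.centralizer (L' : Set M) →
          (g : G) ∉ Subgroup.centralizer (L : Set G) := by
        intro g _ hgc h
        apply hgc
        rw [Subgroup.mem_centralizer_iff]
        intro l hl
        apply Subtype.ext
        exact Subgroup.mem_centralizer_iff.1 h l hl
      have hconf : Conf p L' (QuotientGroup.mk' (Subgroup.center L')) (a - M.index.factorization p) := by
        refine ⟨?_, hqs.1, QuotientGroup.mk'_surjective _, QuotientGroup.ker_mk' _, ?_, ?_, ?_, ?_⟩
        · exact Subgroup.normal_in_normalizer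
        · have h1 := (Subgroup.center L').equivMapOfInjective e.toMonoidHom e.injective
          rw [hcenter] at h1
          exact hcp.of_equiv h1.symm
        · intro h0
          rw [h0, Subgroup.map_bot] at hcenter
          exact hZ hcenter.symm
        · intro y hy hyc hyo
          have hyc' := hcM y hy hyc
          have h1 := hindex y hy hyc'
          have h2 := hN.pel y (hLN hy) (hLc _ hy hyc') (by rwa [Subgroup.orderOf_coe])
          omega
        · intro x hx hxc hxo
          have hxc' := hcM x hx hxc
          have h1 := hindex x hx hxc'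
          have h2 := hN.qel x (hLN hx) (hLc _ hx hxc') (by rwa [Subgroup.orderOf_coe])
          omega
      refine good (L' ⧸ Subgroup.center L') ?_ M L' _ _ hconf
      by_contra hcon
      push Not at hcon
      have h1 : Group.IsPerfect (L' ⧸ Subgroup.center L') := by
        have := hqs.1
        exact Group.IsPerfect.ofSurjective (f := QuotientGroup.mk' (Subgroup.center L'))
          (QuotientGroup.mk'_surjective _)
      have h2 : Group.IsSolvable (L' ⧸ Subgroup.center L') := Group.isSolvable_of_comm hcon
      have h3 := hsimple.toNontrivial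
      exact Group.IsPerfect.not_isSolvable _ h2

end Cfsg.Agent.H576.Prim
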